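import Cfsg.Agent.Helper18.InvOdd.ToN

/-!
Helper18 (S4279; generic in the datum `D`): an element `g` of a Chevalley group commuting with `τ ∈ H` has a sharp Bruhat form
`g = u₁ h n u` (S1100) all of whose factors commute with `τ`.
-/

set_option autoImplicit false

namespace Cfsg.Agent.Helper18.InvOdd

open Cfsg Cfsg.Lie Cfsg.Agent.Helper18

section
variable {F : Type*} [Field F] (D : ChevalleyDatum)

/-- the subgroup `U_n⁻` of the sharp Bruhat decomposition (S1100), for a general datum -/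
def UmD (n : GL D.Idx F) : Subgroup (GL D.Idx F) :=
  Subgroup.closure {x : GL D.Idx F | ∃ (r : ℕ) (t : F), D.IsPosRoot r ∧
    (D.rootSubgroup F r).map (MulAut.conj n).toMonoidHom ≤ D.negUnipotent F ∧
      (x : Matrix D.Idx D.Idx F) = D.x F r t}

variable (hD : D ∈ [chevG2, chevB2, chevD4, chevF4, chevE6, chevE7, chevE8])
include hD

/-- `H` is commutative -/
theorem diag_comm' (k k' : GL D.Idx F) (hk : k ∈ D.diagonalSubgroup F) (hk' : k' ∈ D.diagonalSubgroup F) :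
    k * k' = k' * k := by
  obtain ⟨χ, -, hd, -, -⟩ := Cfsg.Agent.Helper18.Ree.diag_char_neg D hD k hk
  obtain ⟨χ', -, hd', -, -⟩ := Cfsg.Agent.Helper18.Ree.diag_char_neg D hD k' hk'
  apply Units.ext
  rw [Units.val_mul, Units.val_mul, hd, hd', Matrix.diagonal_mul_diagonal, Matrix.diagonal_mul_diagonal]
  congr 1
  funext j
  exact mul_comm _ _

/-- `U_n⁻` is normalised by `H` -/
theorem UmD_conj_diag (k n u : GL D.Idx F) (hk : k ∈ D.diagonalSubgroup F) (hu : u ∈ UmD D n) :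
    k * u * k⁻¹ ∈ UmD D n := by
  have htri := triOK_of_mem D hD
  obtain ⟨χ, -, -, hc, -⟩ := Cfsg.Agent.Helper18.Ree.diag_char_neg D hD k hk
  have : UmD D n ≤ (UmD D n).comap (MulAut.conj k).toMonoidHom := by
    unfold UmD
    rw [Subgroup.closure_le]
    rintro x ⟨r, t, hr, hle, hx⟩
    rw [SetLike.mem_coe, Subgroup.mem_comap]
    have hxX : x = xGL D F r t := by
      apply Units.ext
      rw [hx, xGL_val D _ htri]
    have h1 : (MulAut.conj k).toMonoidHom x = xGL D F r (χ r * t) := by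
      rw [hxX]
      show k * xGL D F r t * k⁻¹ = _
      rw [hc r hr.1 t]
      group
    rw [h1]
    apply Subgroup.subset_closure
    exact ⟨r, _, hr, hle, by rw [xGL_val D _ htri]⟩
  exact this hu

/-- **the centraliser of a torus element in sharp Bruhat form** -/
theorem cent_decomp (τ : GL D.Idx F) (hτ : τ ∈ D.diagonalSubgroup F) (g : GL D.Idx F) (hg : g ∈ D.group F)
    (hc : g * τ = τ * g) :
    ∃ u₁ ∈ D.posUnipotent F, ∃ h ∈ D.diagonalSubgroup F, ∃ n ∈ D.monomialSubgroup F, ∃ u ∈ UmD D n,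
      g = u₁ * h * n * u ∧ u₁ * τ = τ * u₁ ∧ n * τ = τ * n ∧ u * τ = τ * u := by
  have hHB := diagonal_le_borel (F := F) D hD
  have hHU := (Cfsg.Agent.S1036.result (F := F) D hD).1
  have hUH := (Cfsg.Agent.S1036.result (F := F) D hD).2
  obtain ⟨b, hb, n, hn, u, hu, rfl⟩ := (Cfsg.Agent.S1100.result (F := F) D hD).1 g hg
  have hu' : u ∈ UmD D n := hu
  -- `h' = n⁻¹ τ n τ⁻¹ ∈ H`
  have h1 : n⁻¹ * τ * n ∈ D.diagonalSubgroup F := by
    have := (Subgroup.mem_normalizer_iff.mp (monomialSubgroup_le_normalizer D hD (inv_mem hn)) _).mp hτ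
    simpa using this
  have hh' : n⁻¹ * τ * n * τ⁻¹ ∈ D.diagonalSubgroup F := mul_mem h1 (inv_mem hτ)
  have hk : n * (n⁻¹ * τ * n * τ⁻¹) * n⁻¹ ∈ D.diagonalSubgroup F :=
    (Subgroup.mem_normalizer_iff.mp (monomialSubgroup_le_normalizer D hD hn) _).mp hh'
  set k := n * (n⁻¹ * τ * n * τ⁻¹) * n⁻¹ with hkdef
  have hb' : τ * b * τ⁻¹ * k ∈ D.borelSubgroup F :=
    mul_mem (mul_mem (mul_mem (hHB hτ) hb) (inv_mem (hHB hτ))) (hHB hk)
  have hu'' : τ * u * τ⁻¹ ∈ UmD D n := UmD_conj_diag D hD τ n u hτ hu'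
  have heq : b * n * u = (τ * b * τ⁻¹ * k) * n * (τ * u * τ⁻¹) := by
    have e1 : (τ * b * τ⁻¹ * k) * n * (τ * u * τ⁻¹) = τ * (b * n * u) * τ⁻¹ := by rw [hkdef]; group
    rw [e1, ← hc]; group
  obtain ⟨-, h2⟩ := (Cfsg.Agent.S1100.result (F := F) D hD).2 b (τ * b * τ⁻¹ * k) n n u (τ * u * τ⁻¹) hb hb' hn hn hu hu'' heq
  obtain ⟨ebb, euu⟩ := h2 rfl
  -- `u` commutes with `τ`
  have hcu : u * τ = τ * u := by
    have : u * τ = (τ * u * τ⁻¹) * τ := by rw [← euu]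
    rw [this]; group
  -- `b = u₁ h₁`
  obtain ⟨u₁, hu₁, h₁, hh₁, rfl⟩ := borel_decomp D hD b hb
  have hconj : τ * u₁ * τ⁻¹ ∈ D.posUnipotent F := (Subgroup.mem_normalizer_iff.mp (hHU hτ) _).mp hu₁
  have e3 : u₁⁻¹ * (τ * u₁ * τ⁻¹) = h₁ * (τ * h₁ * τ⁻¹ * k)⁻¹ := by
    have : τ * (u₁ * h₁) * τ⁻¹ * k = (τ * u₁ * τ⁻¹) * (τ * h₁ * τ⁻¹ * k) := by group
    rw [this] at ebb
    have : u₁⁻¹ * (τ * u₁ * τ⁻¹) = u₁⁻¹ * ((τ * u₁ * τ⁻¹) * (τ * h₁ * τ⁻¹ * k)) * (τ * h₁ * τ⁻¹ * k)⁻¹ := by group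
    rw [this, ← ebb]; group
  have hmemH : h₁ * (τ * h₁ * τ⁻¹ * k)⁻¹ ∈ D.diagonalSubgroup F :=
    mul_mem hh₁ (inv_mem (mul_mem (mul_mem (mul_mem hτ hh₁) (inv_mem hτ)) hk))
  have e4 : u₁⁻¹ * (τ * u₁ * τ⁻¹) ∈ D.posUnipotent F ⊓ D.diagonalSubgroup F :=
    ⟨mul_mem (Subgroup.inv_mem _ hu₁) hconj, by rw [e3]; exact hmemH⟩
  rw [hUH, Subgroup.mem_bot] at e4
  have hcu₁ : u₁ * τ = τ * u₁ := by
    have : τ * u₁ * τ⁻¹ = u₁ := by
      have := congrArg (fun z => u₁ * z) e4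
      simpa using this
    calc u₁ * τ = (τ * u₁ * τ⁻¹) * τ := by rw [this]
      _ = τ * u₁ := by group
  -- `k = 1`
  have hk1 : k = 1 := by
    rw [e4] at e3
    have e5 : τ * h₁ * τ⁻¹ = h₁ := by
      rw [diag_comm' D hD τ h₁ hτ hh₁]; group
    rw [e5] at e3
    have h7 : h₁ * k = h₁ := by
      calc h₁ * k = 1 * (h₁ * k) := by rw [one_mul]
        _ = h₁ * (h₁ * k)⁻¹ * (h₁ * k) := by rw [← e3]
        _ = h₁ := by group
    exact mul_eq_left.mp h7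
  have hcn : n * τ = τ * n := by
    have : n⁻¹ * τ * n * τ⁻¹ = 1 := by
      have h5 : n⁻¹ * τ * n * τ⁻¹ = n⁻¹ * k * n := by rw [hkdef]; group
      rw [h5, hk1]; group
    have h6 : τ * n = n * (n⁻¹ * τ * n * τ⁻¹) * τ := by group
    rw [h6, this, mul_one]
  exact ⟨u₁, hu₁, h₁, hh₁, n, hn, u, hu', by group, hcu₁, hcn, hcu⟩

end

end Cfsg.Agent.Helper18.InvOdd
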