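import Cfsg.Agent.Helper18.InvOdd.ToN
import Cfsg.Agent.Helper40.SL2Chev
import Cfsg.Agent.Helper18.TorusH
import Cfsg.Agent.Helper18.WeylHomData
import Cfsg.Agent.Helper18.Graded

/-!
Helper18 (S4278/S4279): the working interface for `G₂(F)`: root elements `X r t`, the rank-one relations, the torus and its
characters, the monomial group.
-/

set_option autoImplicit false
set_option maxRecDepth 100000

namespace Cfsg.Agent.Helper18.G2Odd

open Cfsg Cfsg.Lie Cfsg.Agent.Helper18 Cfsg.Agent.Helper40.SL2Hom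

theorem hG2 : chevG2 ∈ [chevG2, chevB2, chevD4, chevF4, chevE6, chevE7, chevE8] := by simp

theorem haddG2 : Cfsg.Agent.Helper40.ChevAdd.addOK chevG2 = true := Cfsg.Agent.Helper40.ChevAdd.addOK_of_mem hG2

section
variable {F : Type*} [Field F]

/-- the root elements -/
noncomputable def X (r : ℕ) (t : F) : GL chevG2.Idx F := xGL chevG2 F r t

theorem X_eq (r : ℕ) (t : F) : X r t = Cfsg.Agent.Helper40.ChevAdd.xGL chevG2 haddG2 F r t := by
  apply Units.ext
  rw [X, xGL_val chevG2 _ (triOK_of_mem chevG2 hG2)]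
  rfl

theorem X_add (r : ℕ) (s t : F) : X r (s + t) = X r s * X r t := (xGL_mul_add chevG2 hG2 r s t).symm

theorem X_mem_group (r : ℕ) (t : F) : X r t ∈ chevG2.group F := xGL_mem_group' chevG2 hG2 r t

theorem neg_eq (r : ℕ) (hr : r < 12) : chevG2.neg r = 11 - r := by
  revert r; decide

/-- the rank-one relations for the pair `(r, -r)` -/
theorem relX (r : ℕ) (hr : r < 12) : Rel (X (F := F) r) (X (11 - r)) := by
  have h := Cfsg.Agent.Helper40.SL2Chev.rel (F := F) chevG2 haddG2 hG2 r hr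
  rw [neg_eq r hr] at h
  have e1 : X (F := F) r = Cfsg.Agent.Helper40.ChevAdd.xGL chevG2 haddG2 F r := funext fun t => X_eq r t
  have e2 : X (F := F) (11 - r) = Cfsg.Agent.Helper40.ChevAdd.xGL chevG2 haddG2 F (11 - r) := funext fun t => X_eq _ t
  rw [e1, e2]
  exact h

/-- `n_r = n_r(1)` -/
noncomputable def nn (r : ℕ) : GL chevG2.Idx F := w (X (F := F) r) (X (11 - r)) 1

/-- `h_r(t)` -/
noncomputable def hh (r : ℕ) (t : F) : GL chevG2.Idx F := h (X (F := F) r) (X (11 - r)) t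

theorem nn_eq (r : ℕ) (hr : r < 12) : nn (F := F) r = wordGL chevG2 F (chevG2.nWord r (1 : F)) := by
  rw [wordGL_nWord', neg_eq r hr]
  rfl

theorem nn_mem_monomial (r : ℕ) (hr : r < 12) : nn (F := F) r ∈ chevG2.monomialSubgroup F := by
  rw [nn_eq r hr]
  exact nGL_mem_monomialSubgroup chevG2 hG2 r hr

theorem monomial_le_group : chevG2.monomialSubgroup F ≤ chevG2.group F :=
  (Cfsg.Agent.S1043.result (F := F) chevG2 hG2).2.1

theorem borel_le_group : chevG2.borelSubgroup F ≤ chevG2.group F :=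
  (Cfsg.Agent.S1043.result (F := F) chevG2 hG2).1

theorem hh_val (r : ℕ) (hr : r < 12) (t : F) :
    ((hh r t : GL chevG2.Idx F) : Matrix chevG2.Idx chevG2.Idx F) = chevG2.hMat F r t := by
  have e : hh r t = Cfsg.Agent.Helper40.SL2Chev.hG chevG2 haddG2 r t := by
    unfold hh Cfsg.Agent.Helper40.SL2Chev.hG
    rw [neg_eq r hr]
    have e1 : X (F := F) r = Cfsg.Agent.Helper40.ChevAdd.xGL chevG2 haddG2 F r := funext fun t => X_eq r t
    have e2 : X (F := F) (11 - r) = Cfsg.Agent.Helper40.ChevAdd.xGL chevG2 haddG2 F (11 - r) :=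
      funext fun t => X_eq _ t
    rw [e1, e2]
  rw [e, Cfsg.Agent.Helper40.SL2Chev.coe_hG]

theorem hh_mem_diagonal (r : ℕ) (hr : r < 12) (t : F) (ht : t ≠ 0) : hh r t ∈ chevG2.diagonalSubgroup F :=
  Subgroup.subset_closure ⟨r, t, hr, ht, hh_val r hr t⟩

/-- `h_r(u) x_s(t) h_r(u)⁻¹ = x_s(u^{⟨s, r^∨⟩} t)` -/
theorem hh_conj (r s : ℕ) (hr : r < 12) (hs : s < 12) (u t : F) (hu : u ≠ 0) :
    hh r u * X s t * (hh r u)⁻¹ = X s (u ^ pairing' chevG2 r s * t) := by
  rw [mul_inv_eq_iff_eq_mul]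
  apply Units.ext
  rw [Units.val_mul, Units.val_mul, hh_val r hr, X, X, xGL_val chevG2 _ (triOK_of_mem chevG2 hG2),
    xGL_val chevG2 _ (triOK_of_mem chevG2 hG2)]
  exact hMat_mul_x chevG2 (by simp [allData]) r s hr hs u t hu

/-- the value of the root `s` on `h_{p₁}(c₀) h_{p₂}(c₁)` -/
def chr (s : ℕ) (c₀ c₁ : Fˣ) : Fˣ := c₀ ^ chevG2.cartan 0 s * c₁ ^ chevG2.cartan 1 s

/-- a pair of units as a function on `Fin rank` -/
def pairU (c₀ c₁ : Fˣ) : Fin chevG2.rank → Fˣ := fun i => if i.val = 0 then c₀ else c₁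

theorem fin_rank_cases (i : Fin chevG2.rank) : i = (⟨0, by decide⟩ : Fin chevG2.rank) ∨ i = (⟨1, by decide⟩ : Fin chevG2.rank) := by
  rcases i with ⟨i, hi⟩
  have : i < 2 := hi
  interval_cases i
  · left; rfl
  · right; rfl

/-- the torus element `h_{p₁}(c₀) h_{p₂}(c₁)` -/
noncomputable def tor (c₀ c₁ : Fˣ) : GL chevG2.Idx F := torusHom chevG2 F (pairU c₀ c₁)

theorem tor_mem (c₀ c₁ : Fˣ) : tor c₀ c₁ ∈ chevG2.diagonalSubgroup F := torusHom_mem chevG2 hG2 _

theorem mem_diagonal_iff (k : GL chevG2.Idx F) : k ∈ chevG2.diagonalSubgroup F ↔ ∃ c₀ c₁ : Fˣ, k = tor c₀ c₁ := by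
  rw [← torusHom_range chevG2 hG2]
  constructor
  · rintro ⟨c, rfl⟩
    refine ⟨c ⟨0, by decide⟩, c ⟨1, by decide⟩, ?_⟩
    unfold tor
    congr 1
    funext i
    rcases fin_rank_cases i with rfl | rfl <;> rfl
  · rintro ⟨c₀, c₁, rfl⟩
    exact ⟨_, rfl⟩

/-- the torus acts on the root groups through the characters -/
theorem tor_conj (c₀ c₁ : Fˣ) (s : ℕ) (hs : s < 12) (t : F) :
    tor c₀ c₁ * X s t * (tor c₀ c₁)⁻¹ = X s ((chr s c₀ c₁ : Fˣ) * t) := by
  obtain ⟨χ, -, hd, hc, -⟩ := Cfsg.Agent.Helper18.Ree.diag_char_neg chevG2 hG2 _ (tor_mem (F := F) c₀ c₁)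
  have h1 := hc s hs t
  rw [mul_inv_eq_iff_eq_mul]
  have h2 : χ s = ((chr s c₀ c₁ : Fˣ) : F) := by
    have h3 := congrFun (congrFun hd (Sum.inr ⟨s, hs⟩)) (Sum.inr ⟨s, hs⟩)
    rw [Matrix.diagonal_apply_eq] at h3
    simp only [Sum.elim_inr] at h3
    rw [← h3]
    unfold tor
    rw [torusHom_val, Matrix.diagonal_apply_eq]
    simp only [torusChar, MonoidHom.coe_mk, OneHom.coe_mk, Sum.elim_inr]
    have : (Finset.univ : Finset (Fin chevG2.rank)) =
        {(⟨0, by decide⟩ : Fin chevG2.rank), (⟨1, by decide⟩ : Fin chevG2.rank)} := by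
      decide
    rw [this, Finset.prod_insert (by decide), Finset.prod_singleton]
    rfl
  rw [← h2]
  exact h1

theorem tor_mul (c₀ c₁ d₀ d₁ : Fˣ) : tor c₀ c₁ * tor d₀ d₁ = tor (F := F) (c₀ * d₀) (c₁ * d₁) := by
  unfold tor
  rw [← map_mul]
  congr 1
  funext i
  rcases fin_rank_cases i with rfl | rfl <;> rfl

theorem tor_one : tor (F := F) 1 1 = 1 := by
  unfold tor
  rw [← map_one (torusHom chevG2 F)]
  congr 1
  funext i
  rcases fin_rank_cases i with rfl | rfl <;> rfl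

end

end Cfsg.Agent.Helper18.G2Odd
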