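import Cfsg.Agent.Helper18.InvOdd.G2N

/-!
Helper18 (S4278/S4279): conjugacy in `G₂(F)`, the Bruhat decomposition, and the reduction of involutions to `N`.
-/

set_option autoImplicit false
set_option maxRecDepth 100000

namespace Cfsg.Agent.Helper18.G2Odd

open Cfsg Cfsg.Lie Cfsg.Agent.Helper18 Cfsg.Agent.Helper40.SL2Hom

section
variable {F : Type*} [Field F]

/-- conjugacy under the group `G₂(F)` (for elements of the ambient general linear group) -/
def ConjG (x y : GL chevG2.Idx F) : Prop := ∃ g ∈ chevG2.group F, g * x * g⁻¹ = y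

theorem ConjG.refl (x : GL chevG2.Idx F) : ConjG x x := ⟨1, one_mem _, by group⟩

theorem ConjG.symm {x y : GL chevG2.Idx F} (h : ConjG x y) : ConjG y x := by
  obtain ⟨g, hg, rfl⟩ := h
  exact ⟨g⁻¹, inv_mem hg, by group⟩

theorem ConjG.trans {x y z : GL chevG2.Idx F} (h : ConjG x y) (h' : ConjG y z) : ConjG x z := by
  obtain ⟨g, hg, rfl⟩ := h
  obtain ⟨g', hg', rfl⟩ := h'
  exact ⟨g' * g, mul_mem hg' hg, by group⟩

theorem ConjG.sq_eq_one {x y : GL chevG2.Idx F} (h : ConjG x y) (hx : x * x = 1) : y * y = 1 := by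
  obtain ⟨g, -, rfl⟩ := h
  calc g * x * g⁻¹ * (g * x * g⁻¹) = g * (x * x) * g⁻¹ := by group
    _ = 1 := by rw [hx]; group

theorem ConjG.mem_group {x y : GL chevG2.Idx F} (h : ConjG x y) (hx : x ∈ chevG2.group F) : y ∈ chevG2.group F := by
  obtain ⟨g, hg, rfl⟩ := h
  exact mul_mem (mul_mem hg hx) (inv_mem hg)

theorem diagonal_le_group : chevG2.diagonalSubgroup F ≤ chevG2.group F :=
  (diagonal_le_borel (F := F) chevG2 hG2).trans borel_le_group

/-- the Bruhat decomposition `G = B N B` -/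
theorem bruhat (g : GL chevG2.Idx F) (hg : g ∈ chevG2.group F) :
    ∃ b ∈ chevG2.borelSubgroup F, ∃ n ∈ chevG2.monomialSubgroup F, ∃ b' ∈ chevG2.borelSubgroup F, g = b * n * b' := by
  obtain ⟨b, hb, n, hn, u, hu, e⟩ := (Cfsg.Agent.S1100.result (F := F) chevG2 hG2).1 g hg
  exact ⟨b, hb, n, hn, u, posUnipotent_le_borel (F := F) chevG2 hG2 (Cfsg.Agent.Helper36.bruhatU_le_pos chevG2 n hu), e⟩

/-- an involution in the cell `B n B` is conjugate to an involution in `H n` -/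
theorem invol_cell [Fintype F] (hF : Odd (Fintype.card F)) (b n b' : GL chevG2.Idx F)
    (hb : b ∈ chevG2.borelSubgroup F) (hn : n ∈ chevG2.monomialSubgroup F) (hb' : b' ∈ chevG2.borelSubgroup F)
    (h2 : (b * n * b') * (b * n * b') = 1) :
    ∃ k ∈ chevG2.diagonalSubgroup F, (k * n) * (k * n) = 1 ∧ ConjG (b * n * b') (k * n) := by
  obtain ⟨g, hg, k, hk, e, hkn⟩ := Cfsg.Agent.Helper18.InvOdd.invol_conj_monomial chevG2 hG2 hF b n b' hb hn hb' h2
  exact ⟨k, hk, hkn, g, borel_le_group hg, e⟩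

/-- every involution of `G₂(F)`, `|F|` odd, is conjugate to an involution of `N` -/
theorem invol_to_N [Fintype F] (hF : Odd (Fintype.card F)) (t : GL chevG2.Idx F) (ht : t ∈ chevG2.group F)
    (h2 : t * t = 1) : ∃ m ∈ chevG2.monomialSubgroup F, m * m = 1 ∧ ConjG t m := by
  obtain ⟨b, hb, n, hn, b', hb', rfl⟩ := bruhat t ht
  obtain ⟨k, hk, hkn, hc⟩ := invol_cell hF b n b' hb hn hb' h2
  exact ⟨k * n, mul_mem (diagonalSubgroup_le_monomialSubgroup (F := F) chevG2 hk) hn, hkn, hc⟩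

end

end Cfsg.Agent.Helper18.G2Odd

namespace Cfsg.Agent.Helper18.G2Odd

open Cfsg Cfsg.Lie Cfsg.Agent.Helper18 Cfsg.Agent.Helper40.SL2Hom

section
variable {F : Type*} [Field F]

theorem chr7 (c₀ c₁ : Fˣ) : chr 7 c₀ c₁ = c₀ ^ (2 : ℤ) * c₁ ^ (-1 : ℤ) := rfl

theorem chr6 (c₀ c₁ : Fˣ) : chr 6 c₀ c₁ = c₀ ^ (-3 : ℤ) * c₁ ^ (2 : ℤ) := rfl

/-- the torus parameters are determined by the element -/
theorem tor_inj (c₀ c₁ d₀ d₁ : Fˣ) (h : tor (F := F) c₀ c₁ = tor d₀ d₁) : c₀ = d₀ ∧ c₁ = d₁ := by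
  have key : ∀ s < 12, chr s c₀ c₁ = chr s d₀ d₁ := by
    intro s hs
    have h1 := tor_conj c₀ c₁ s hs (1 : F)
    rw [h, tor_conj d₀ d₁ s hs] at h1
    have := X_injective s hs _ _ h1
    rw [mul_one, mul_one] at this
    exact (Units.ext this).symm
  have h7 := key 7 (by decide)
  have h6 := key 6 (by decide)
  rw [chr7, chr7] at h7
  rw [chr6, chr6] at h6
  have e0 : ∀ a b : Fˣ, a = (a ^ (2 : ℤ) * b ^ (-1 : ℤ)) ^ (2 : ℤ) * (a ^ (-3 : ℤ) * b ^ (2 : ℤ)) := by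
    intro a b
    rw [mul_zpow, ← zpow_mul, ← zpow_mul, mul_mul_mul_comm, ← zpow_add, ← zpow_add]
    norm_num
  have e1 : ∀ a b : Fˣ, b = (a ^ (2 : ℤ) * b ^ (-1 : ℤ)) ^ (3 : ℤ) * (a ^ (-3 : ℤ) * b ^ (2 : ℤ)) ^ (2 : ℤ) := by
    intro a b
    rw [mul_zpow, mul_zpow, ← zpow_mul, ← zpow_mul, ← zpow_mul, ← zpow_mul, mul_mul_mul_comm, ← zpow_add,
      ← zpow_add]
    norm_num
  constructor
  · rw [e0 c₀ c₁, h7, h6, ← e0]
  · rw [e1 c₀ c₁, h7, h6, ← e1]

/-- `n_r ∉ H` -/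
theorem nn_not_mem_diagonal (r : ℕ) (hr : r < 12) : nn (F := F) r ∉ chevG2.diagonalSubgroup F := by
  intro hmem
  obtain ⟨c₀, c₁, e⟩ := (mem_diagonal_iff _).mp hmem
  have R := relX (F := F) r hr
  have h1 : nn r * X r (1 : F) * (nn r)⁻¹ = X (11 - r) (-(1⁻¹ * 1⁻¹ * 1)) := R.conj 1 1 one_ne_zero
  rw [e, tor_conj c₀ c₁ r hr] at h1
  -- one of the two is in `U`, the other in `V`
  have hnegroot : ∀ b < 6, chevG2.IsNegRoot b := by decide
  have hUV : ∀ (a b : ℕ), a < 12 → b = 11 - a → ∀ u v : F, X a u = X b v → v = 0 := by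
    intro a b ha hb u v huv
    have hBV := (Cfsg.Agent.S1037.result (F := F) chevG2 hG2).1
    by_cases h6 : 6 ≤ a
    · have hb6 : b < 6 := by omega
      have m1 : X b v ∈ chevG2.borelSubgroup F ⊓ chevG2.negUnipotent F := by
        refine ⟨?_, ?_⟩
        · rw [← huv]
          exact posUnipotent_le_borel (F := F) chevG2 hG2 (X_mem_pos a ⟨h6, ha⟩ u)
        · exact Subgroup.subset_closure ⟨b, v, hnegroot b hb6, by
            rw [X, xGL_val chevG2 _ (triOK_of_mem chevG2 hG2)]⟩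
      rw [hBV, Subgroup.mem_bot, ← X_zero b] at m1
      exact X_injective b (by omega) _ _ m1
    · have ha6 : a < 6 := by omega
      have hb6 : 6 ≤ b ∧ b < 12 := by omega
      have m1 : X b v ∈ chevG2.borelSubgroup F ⊓ chevG2.negUnipotent F := by
        refine ⟨posUnipotent_le_borel (F := F) chevG2 hG2 (X_mem_pos b hb6 v), ?_⟩
        rw [← huv]
        exact Subgroup.subset_closure ⟨a, u, hnegroot a ha6, by
          rw [X, xGL_val chevG2 _ (triOK_of_mem chevG2 hG2)]⟩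
      rw [hBV, Subgroup.mem_bot, ← X_zero b] at m1
      exact X_injective b (by omega) _ _ m1
  have := hUV r (11 - r) hr rfl _ _ h1
  simp at this

end

end Cfsg.Agent.Helper18.G2Odd
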