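import Cfsg.Agent.Helper18.InvOdd.G2B
import Cfsg.Agent.S1026
import Cfsg.Agent.Helper5.Card

/-!
Helper18 (S4279): interface for the centraliser of the involution `τ = h_b(-1) = h_{2a+b}(-1)` of `G₂(F)`.
-/

set_option autoImplicit false
set_option maxRecDepth 100000

namespace Cfsg.Agent.Helper18.G2Odd

open Cfsg Cfsg.Lie Cfsg.Agent.Helper18 Cfsg.Agent.Helper40.SL2Hom

section
variable {F : Type*} [Field F]

/-- the involution `τ` (for `char F ≠ 2`) -/
noncomputable def tau : GL chevG2.Idx F := tor 1 (-1)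

theorem tau_mem_diagonal : tau (F := F) ∈ chevG2.diagonalSubgroup F := tor_mem _ _

theorem tau_mul_self : tau (F := F) * tau = 1 := by
  unfold tau
  rw [tor_mul]
  simp [tor_one]

/-- the sign of `τ` on the root `s`: `+1` on `±b, ±(2a+b)` (indices `6, 5, 9, 2`), `-1` on the other roots -/
def tsign (s : ℕ) : ℤ := if s = 6 ∨ s = 5 ∨ s = 9 ∨ s = 2 then 1 else -1

theorem tau_conj (s : ℕ) (hs : s < 12) (t : F) : tau * X s t * tau⁻¹ = X s ((tsign s : F) * t) := by
  unfold tau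
  rw [tor_conj 1 (-1) s hs]
  congr 1
  have : ((chr s (1 : Fˣ) (-1) : Fˣ) : F) = ((tsign s : ℤ) : F) := by
    unfold chr
    rw [one_zpow, one_mul]
    have hcases : ∀ s < 12, (chevG2.cartan 1 s = 2 ∨ chevG2.cartan 1 s = -2 ∨ chevG2.cartan 1 s = 0) ∧ tsign s = 1 ∨
        (chevG2.cartan 1 s = 1 ∨ chevG2.cartan 1 s = -1) ∧ tsign s = -1 := by decide
    rcases hcases s hs with ⟨h | h | h, h'⟩ | ⟨h | h, h'⟩ <;> rw [h, h'] <;> simp [zpow_ofNat]
  rw [this]

/-- the root subgroups `X_{±b}` and `X_{±(2a+b)}` commute -/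
theorem X_comm (r s : ℕ) (hr : r = 6 ∨ r = 5) (hs : s = 9 ∨ s = 2) (t u : F) :
    X r t * X s u = X s u * X r t := by
  have h25 : CommHyp chevG2 F := fun r s hr hs h1 h2 t u => Cfsg.Agent.S1025.result chevG2 hG2 r s hr hs h1 h2 t u
  have hr12 : r < chevG2.nroots := by rcases hr with rfl | rfl <;> decide
  have hs12 : s < chevG2.nroots := by rcases hs with rfl | rfl <;> decide
  have h1 : s ≠ r := by rcases hr with rfl | rfl <;> rcases hs with rfl | rfl <;> decide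
  have h2 : s ≠ chevG2.neg r := by rcases hr with rfl | rfl <;> rcases hs with rfl | rfl <;> decide
  have h3 := comm_xGL chevG2 hG2 h25 r s hr12 hs12 h1 h2 t u
  have h4 : chevG2.commWord F r s t u = [] := by
    have : chevG2.commTerms r s = [] := by
      rcases hr with rfl | rfl <;> rcases hs with rfl | rfl <;> decide +kernel
    unfold ChevalleyDatum.commWord
    rw [this]; rfl
  rw [h4] at h3
  have h5 : wordGL chevG2 F ([] : List (ℕ × F)) = 1 := by simp [wordGL]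
  rw [h5, mul_one] at h3
  unfold X
  calc xGL chevG2 F r t * xGL chevG2 F s u
      = xGL chevG2 F r t * ((xGL chevG2 F r t)⁻¹ * xGL chevG2 F s u * xGL chevG2 F r t) := by rw [h3]
    _ = xGL chevG2 F s u * xGL chevG2 F r t := by group

/-- `h_b(-1) = τ` -/
theorem hh6_neg_one : hh 6 (-1 : F) = tau := by
  obtain ⟨c₀, c₁, e⟩ := (mem_diagonal_iff _).mp (hh_mem_diagonal (F := F) 6 (by decide) (-1) (by simp))
  have key : ∀ s < 12, ((chr s c₀ c₁ : Fˣ) : F) = (-1 : F) ^ pairing' chevG2 6 s := by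
    intro s hs
    have h1 := hh_conj 6 s (by decide) hs (-1 : F) 1 (by simp)
    rw [e, tor_conj c₀ c₁ s hs] at h1
    have := X_injective s hs _ _ h1
    simpa using this
  have h7 := key 7 (by decide)
  have h6 := key 6 (by decide)
  have p7 : pairing' chevG2 6 7 = -1 := by decide
  have p6 : pairing' chevG2 6 6 = 2 := by decide
  rw [p7] at h7
  rw [p6] at h6
  have h7' : chr 7 c₀ c₁ = -1 := by
    apply Units.ext
    rw [h7]; simp
  have h6' : chr 6 c₀ c₁ = 1 := by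
    apply Units.ext
    rw [h6]; simp
  rw [e]
  unfold tau
  have e0 : c₀ = chr 7 c₀ c₁ ^ (2 : ℤ) * chr 6 c₀ c₁ := by
    rw [chr7, chr6, mul_zpow, ← zpow_mul, ← zpow_mul, mul_mul_mul_comm, ← zpow_add, ← zpow_add]
    norm_num
  have e1 : c₁ = chr 7 c₀ c₁ ^ (3 : ℤ) * chr 6 c₀ c₁ ^ (2 : ℤ) := by
    rw [chr7, chr6, mul_zpow, mul_zpow, ← zpow_mul, ← zpow_mul, ← zpow_mul, ← zpow_mul, mul_mul_mul_comm, ← zpow_add,
      ← zpow_add]
    norm_num
  rw [h7', h6'] at e0 e1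
  have e0' : c₀ = 1 := by rw [e0]; simp
  have e1' : c₁ = -1 := by
    rw [e1]
    simp only [one_zpow, mul_one]
    norm_num [zpow_ofNat]
  rw [e0', e1']

/-- `h_{2a+b}(-1) = τ` -/
theorem hh9_neg_one : hh 9 (-1 : F) = tau := by
  obtain ⟨c₀, c₁, e⟩ := (mem_diagonal_iff _).mp (hh_mem_diagonal (F := F) 9 (by decide) (-1) (by simp))
  have key : ∀ s < 12, ((chr s c₀ c₁ : Fˣ) : F) = (-1 : F) ^ pairing' chevG2 9 s := by
    intro s hs
    have h1 := hh_conj 9 s (by decide) hs (-1 : F) 1 (by simp)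
    rw [e, tor_conj c₀ c₁ s hs] at h1
    have := X_injective s hs _ _ h1
    simpa using this
  have h7 := key 7 (by decide)
  have h6 := key 6 (by decide)
  have p7 : pairing' chevG2 9 7 = 1 := by decide
  have p6 : pairing' chevG2 9 6 = 0 := by decide
  rw [p7] at h7
  rw [p6] at h6
  have h7' : chr 7 c₀ c₁ = -1 := by
    apply Units.ext
    rw [h7]; simp
  have h6' : chr 6 c₀ c₁ = 1 := by
    apply Units.ext
    rw [h6]; simp
  rw [e]
  unfold tau
  have e0 : c₀ = chr 7 c₀ c₁ ^ (2 : ℤ) * chr 6 c₀ c₁ := by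
    rw [chr7, chr6, mul_zpow, ← zpow_mul, ← zpow_mul, mul_mul_mul_comm, ← zpow_add, ← zpow_add]
    norm_num
  have e1 : c₁ = chr 7 c₀ c₁ ^ (3 : ℤ) * chr 6 c₀ c₁ ^ (2 : ℤ) := by
    rw [chr7, chr6, mul_zpow, mul_zpow, ← zpow_mul, ← zpow_mul, ← zpow_mul, ← zpow_mul, mul_mul_mul_comm, ← zpow_add,
      ← zpow_add]
    norm_num
  rw [h7', h6'] at e0 e1
  have e0' : c₀ = 1 := by rw [e0]; simp
  have e1' : c₁ = -1 := by
    rw [e1]
    simp only [one_zpow, mul_one]
    norm_num [zpow_ofNat]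
  rw [e0', e1']

/-- the subgroup `U_n⁻` of the sharp Bruhat decomposition (S1100) -/
def Um (n : GL chevG2.Idx F) : Subgroup (GL chevG2.Idx F) :=
  Subgroup.closure {x : GL chevG2.Idx F | ∃ (r : ℕ) (t : F), chevG2.IsPosRoot r ∧
    (chevG2.rootSubgroup F r).map (MulAut.conj n).toMonoidHom ≤ chevG2.negUnipotent F ∧
      (x : Matrix chevG2.Idx chevG2.Idx F) = chevG2.x F r t}

theorem Um_le_pos (n : GL chevG2.Idx F) : Um n ≤ chevG2.posUnipotent F :=
  Cfsg.Agent.Helper36.bruhatU_le_pos chevG2 n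

theorem conj_Um_mem_neg (n u : GL chevG2.Idx F) (hu : u ∈ Um n) : n * u * n⁻¹ ∈ chevG2.negUnipotent F := by
  apply Cfsg.Agent.Helper36.bruhatU_conj_le_neg chevG2 n
  exact ⟨u, hu, by simp [MulAut.conj_apply]⟩

/-- the sharp Bruhat decomposition: existence -/
theorem bruhat' (g : GL chevG2.Idx F) (hg : g ∈ chevG2.group F) :
    ∃ b ∈ chevG2.borelSubgroup F, ∃ n ∈ chevG2.monomialSubgroup F, ∃ u ∈ Um n, g = b * n * u :=
  (Cfsg.Agent.S1100.result (F := F) chevG2 hG2).1 g hg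

/-- the sharp Bruhat decomposition: uniqueness -/
theorem bruhat_unique (b b' n n' u u' : GL chevG2.Idx F) (hb : b ∈ chevG2.borelSubgroup F)
    (hb' : b' ∈ chevG2.borelSubgroup F) (hn : n ∈ chevG2.monomialSubgroup F) (hn' : n' ∈ chevG2.monomialSubgroup F)
    (hu : u ∈ Um n) (hu' : u' ∈ Um n') (e : b * n * u = b' * n' * u') :
    n⁻¹ * n' ∈ chevG2.diagonalSubgroup F ∧ (n = n' → b = b' ∧ u = u') :=
  (Cfsg.Agent.S1100.result (F := F) chevG2 hG2).2 b b' n n' u u' hb hb' hn hn' hu hu' e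

theorem isPosRoot_iff (r : ℕ) : chevG2.IsPosRoot r ↔ 6 ≤ r ∧ r < 12 := by
  constructor
  · intro h
    have h12 : r < 12 := h.1
    refine ⟨?_, h12⟩
    by_contra h6
    have : ∀ r < 12, chevG2.IsPosRoot r → 6 ≤ r := by decide
    exact h6 (this r h12 h)
  · rintro ⟨h6, h12⟩
    have : ∀ r < 12, 6 ≤ r → chevG2.IsPosRoot r := by decide
    exact this r h12 h6

/-- a positive root element whose root group is sent into `V` by `n` lies in `U_n⁻` -/
theorem X_mem_Um (r : ℕ) (hr : 6 ≤ r ∧ r < 12) (n : GL chevG2.Idx F)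
    (h : ∀ t : F, n * X r t * n⁻¹ ∈ chevG2.negUnipotent F) (t : F) : X r t ∈ Um n := by
  apply Subgroup.subset_closure
  refine ⟨r, t, (isPosRoot_iff r).mpr hr, ?_, by rw [X, xGL_val chevG2 _ (triOK_of_mem chevG2 hG2)]⟩
  rw [Subgroup.map_le_iff_le_comap]
  intro g hg
  obtain ⟨t', rfl⟩ := mem_rootSubgroup chevG2 hG2 r g hg
  rw [Subgroup.mem_comap]
  exact h t'

/-- `U_n⁻` is normalised by `H` -/
theorem Um_conj_diag (k n u : GL chevG2.Idx F) (hk : k ∈ chevG2.diagonalSubgroup F) (hu : u ∈ Um n) :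
    k * u * k⁻¹ ∈ Um n := by
  obtain ⟨c₀, c₁, rfl⟩ := (mem_diagonal_iff k).mp hk
  have : Um n ≤ (Um n).comap (MulAut.conj (tor c₀ c₁)).toMonoidHom := by
    unfold Um
    rw [Subgroup.closure_le]
    rintro x ⟨r, t, hr, hle, hx⟩
    rw [SetLike.mem_coe, Subgroup.mem_comap]
    have hr' := (isPosRoot_iff r).mp hr
    have hxX : x = X r t := by
      apply Units.ext
      rw [hx, X, xGL_val chevG2 _ (triOK_of_mem chevG2 hG2)]
    have : (MulAut.conj (tor c₀ c₁)).toMonoidHom x = X r ((chr r c₀ c₁ : Fˣ) * t) := by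
      rw [hxX, ← tor_conj c₀ c₁ r hr'.2]
      rfl
    rw [this]
    apply Subgroup.subset_closure
    exact ⟨r, _, hr, hle, by rw [X, xGL_val chevG2 _ (triOK_of_mem chevG2 hG2)]⟩
  exact this hu

theorem card_SL2 [Fintype F] :
    Nat.card (Matrix.SpecialLinearGroup (Fin 2) F) = Fintype.card F * (Fintype.card F ^ 2 - 1) := by
  have h1 := Cfsg.Agent.Helper5.card_GL_eq_card_SL_mul (n := Fin 2) (F := F)
  rw [Matrix.card_GL_field] at h1
  have hq : 2 ≤ Fintype.card F := Fintype.one_lt_card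
  obtain ⟨n, hn⟩ : ∃ n, Fintype.card F = n + 2 := ⟨Fintype.card F - 2, by omega⟩
  rw [hn] at h1 ⊢
  simp only [Fin.prod_univ_two, Fin.val_zero, Fin.val_one, pow_zero, pow_one] at h1
  have e1 : (n + 2) ^ 2 - 1 = (n + 1) * (n + 3) := by
    have : (n + 2) ^ 2 = (n + 1) * (n + 3) + 1 := by ring
    omega
  have e2 : (n + 2) ^ 2 - (n + 2) = (n + 2) * (n + 1) := by
    have : (n + 2) ^ 2 = (n + 2) * (n + 1) + (n + 2) := by ring
    omega
  have e3 : n + 2 - 1 = n + 1 := by omega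
  rw [e1, e2, e3] at h1
  rw [e1]
  have h2 : Nat.card (Matrix.SpecialLinearGroup (Fin 2) F) * (n + 1) = (n + 2) * ((n + 1) * (n + 3)) * (n + 1) := by
    rw [← h1]
    ring
  exact Nat.eq_of_mul_eq_mul_right (Nat.succ_pos n) h2

end

end Cfsg.Agent.Helper18.G2Odd
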