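import Cfsg.Agent.Helper18.InvOdd.G2D
import Cfsg.Agent.Helper41.G2CentC5c
import Cfsg.Agent.Helper41.G2CentJ
import Cfsg.Agent.Helper33.G2InvKI
import Cfsg.Agent.Helper31.G2OddC5d
import Cfsg.Agent.Helper42.G2InvIDX
import Cfsg.Agent.Helper42.G2InvTR
import Cfsg.Agent.Helper47.G2CC5a

/-!
Helper18 (S4279): the centraliser of an involution of `G₂(F)`, `|F|` odd — assembly of the pieces
(CD) helper18, (C2), (C3) helper60, (C5a) helper47, (C5b), (C5d) helper31, (C5c), (J) helper41, (K), (I) helper33,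
(IDX), (TR) helper42.  The conjugacy of all involutions (S4278) enters as the hypothesis `hconj`.
-/

set_option autoImplicit false


namespace Cfsg.Agent.Helper18.G2Odd

open Cfsg Cfsg.Lie Cfsg.Agent.Helper18 Cfsg.Agent.Helper40.SL2Hom

section
variable {F : Type*} [Field F] [Fintype F]

theorem two_ne_zero_of_odd (hF : Odd (Fintype.card F)) : (2 : F) ≠ 0 := by
  intro h
  have h2 : ringChar F = 2 := by
    have hd : ringChar F ∣ 2 := by
      apply ringChar.dvd
      exact_mod_cast h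
    rcases (Nat.dvd_prime Nat.prime_two).mp hd with h1 | h1
    · exfalso
      exact CharP.ringChar_ne_one h1
    · exact h1
  have := FiniteField.even_card_of_char_two h2
  exact (Nat.not_even_iff_odd.mpr hF) (Nat.even_iff.mpr this)

omit [Fintype F] in
theorem tau_ne_one (h2 : (2 : F) ≠ 0) : tau (F := F) ≠ 1 := by
  intro h
  unfold tau at h
  rw [← tor_one] at h
  have := (tor_inj _ _ _ _ h).2
  have h3 : ((-1 : Fˣ) : F) = 1 := by rw [this]; rfl
  apply h2
  have : (1 : F) + 1 = 0 := by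
    have h4 : ((-1 : Fˣ) : F) = -1 := by simp
    rw [h4] at h3
    linear_combination -h3
  rw [← this]; norm_num

theorem orderOf_tau (h2 : (2 : F) ≠ 0) : orderOf (tau (F := F)) = 2 := by
  apply orderOf_eq_prime
  · rw [pow_two]; exact tau_mul_self
  · exact tau_ne_one h2

end

section
variable {F : Type*} [Field F]

theorem cPhi41_eq : ∀ p : Cfsg.Agent.Helper31.G2OddC.CParam F,
    Cfsg.Agent.Helper41.G2Cent.cPhi p = Cfsg.Agent.Helper31.G2OddC.cPhi p := by
  rintro ⟨⟨a, b, k⟩, (_ | s | s' | ⟨s, s'⟩)⟩ <;> rfl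

theorem cPhi47_eq : ∀ p : Cfsg.Agent.Helper31.G2OddC.CParam F,
    Cfsg.Agent.Helper47.G2OddSkel.cPhi p = Cfsg.Agent.Helper31.G2OddC.cPhi p := by
  rintro ⟨⟨a, b, k⟩, (_ | s | s' | ⟨s, s'⟩)⟩ <;> rfl

/-- the order of the centraliser of `τ` -/
theorem card_tau [Fintype F] (h2 : (2 : F) ≠ 0) :
    Nat.card ↥(Subgroup.centralizer ({tau} : Set (GL chevG2.Idx F)) ⊓ chevG2.group F) =
      Fintype.card F ^ 2 * (Fintype.card F ^ 2 - 1) ^ 2 := by
  apply Cfsg.Agent.Helper31.G2OddC.card_centralizer_tau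
  · intro p
    rw [← cPhi41_eq]
    exact Cfsg.Agent.Helper41.G2Cent.cPhi_mem p
  · intro g hg hc
    obtain ⟨p, hp⟩ := Cfsg.Agent.Helper47.G2OddSkel.cPhi_surj h2 g hg hc
    exact ⟨p, by rw [← cPhi47_eq]; exact hp⟩
  · exact Cfsg.Agent.Helper31.G2OddC.cPhi_inj

end

section
variable {F : Type*} [Field F] [Fintype F]

/-- the statement of S4279 for the involution `τ`, transported to any `G`-conjugate -/
theorem centralizer_struct (hF : Odd (Fintype.card F))
    (hconj : ∀ t : GL chevG2.Idx F, t ∈ chevG2.group F → t * t = 1 → t ≠ 1 → ConjG t (tor 1 (-1)))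
    (t : ↥(chevG2.group F)) (ht : orderOf t = 2) :
    Nat.card (Subgroup.centralizer ({t} : Set ↥(chevG2.group F))) = Fintype.card F ^ 2 * (Fintype.card F ^ 2 - 1) ^ 2 ∧
      ∃ L₁ L₂ : Subgroup ↥(chevG2.group F), Nonempty (L₁ ≃* Matrix.SpecialLinearGroup (Fin 2) F) ∧
        Nonempty (L₂ ≃* Matrix.SpecialLinearGroup (Fin 2) F) ∧ (∀ x ∈ L₁, ∀ y ∈ L₂, x * y = y * x) ∧
        L₁ ⊓ L₂ = Subgroup.zpowers t ∧ L₁ ⊔ L₂ ≤ Subgroup.centralizer ({t} : Set ↥(chevG2.group F)) ∧
        (L₁ ⊔ L₂).relIndex (Subgroup.centralizer ({t} : Set ↥(chevG2.group F))) = 2 := by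
  have h2 := two_ne_zero_of_odd hF
  -- conjugate `t` to `τ`
  have htt : t * t = 1 := by rw [← pow_two, ← ht, pow_orderOf_eq_one]
  have ht1 : t ≠ 1 := by
    rintro rfl
    rw [orderOf_one] at ht
    omega
  have hc := hconj t t.2 (by simpa using congrArg Subtype.val htt) (fun h => ht1 (Subtype.ext h))
  obtain ⟨g, hg, e⟩ := hc.symm
  -- the data for `τ`
  set L₁ := (phiR (F := F) 6 (by decide)).range with hL₁
  set L₂ := (phiR (F := F) 9 (by decide)).range with hL₂
  have hJ6 := Cfsg.Agent.Helper41.G2Cent.phiR_injective (F := F) 6 (Or.inl rfl)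
  have hJ9 := Cfsg.Agent.Helper41.G2Cent.phiR_injective (F := F) 9 (Or.inr rfl)
  have hK : ∀ x ∈ L₁, ∀ y ∈ L₂, x * y = y * x := fun x hx y hy => Cfsg.Agent.Helper33.G2Inv.phiR_range_commute x y hx hy
  have hinf : L₁ ⊓ L₂ = Subgroup.zpowers tau := Cfsg.Agent.Helper33.G2Inv.phiR_range_inf h2 hJ6 hK
  have hτ12 : tau (F := F) ∈ L₁ ⊓ L₂ := by rw [hinf]; exact Subgroup.mem_zpowers _
  have hle : L₁ ⊔ L₂ ≤ Subgroup.centralizer ({tau} : Set (GL chevG2.Idx F)) := by
    apply sup_le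
    · intro x hx
      rw [Subgroup.mem_centralizer_iff]
      rintro _ rfl
      exact (hK x hx tau hτ12.2).symm
    · intro y hy
      rw [Subgroup.mem_centralizer_iff]
      rintro _ rfl
      exact hK tau hτ12.1 y hy
  have hcard := card_tau (F := F) h2
  have hLG : L₁ ⊔ L₂ ≤ chevG2.group F :=
    sup_le (phiR_range_le_group 6 (by decide)) (phiR_range_le_group 9 (by decide))
  have hM : ∀ (r : ℕ) (hr : r < 12), Function.Injective (phiR (F := F) r hr) →
      Nat.card ↥(phiR (F := F) r hr).range = Fintype.card F * (Fintype.card F ^ 2 - 1) := by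
    intro r hr hinj
    rw [← card_SL2]
    exact (Nat.card_congr (MonoidHom.ofInjective hinj).toEquiv).symm
  have : Finite (GL chevG2.Idx F) := Finite.of_injective (fun g : GL chevG2.Idx F => (g : Matrix chevG2.Idx chevG2.Idx F))
    Units.val_injective
  have hidx : (L₁ ⊔ L₂).relIndex (Subgroup.centralizer ({tau} : Set (GL chevG2.Idx F)) ⊓ chevG2.group F) = 2 := by
    apply Cfsg.Agent.Helper42.G2Inv.relIndex_two_of_commute _ L₁ L₂ tau (orderOf_tau h2) hK hinf (le_inf hle hLG)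
      (Fintype.card F * (Fintype.card F ^ 2 - 1)) (hM 6 _ hJ6) (hM 9 _ hJ9)
    rw [hcard]; ring
  exact Cfsg.Agent.Helper42.G2Inv.transfer_to_subgroup (chevG2.group F) (S := Matrix.SpecialLinearGroup (Fin 2) F) _ tau hcard L₁ L₂
    (phiR_range_le_group 6 (by decide)) (phiR_range_le_group 9 (by decide))
    ⟨(MonoidHom.ofInjective hJ6).symm⟩ ⟨(MonoidHom.ofInjective hJ9).symm⟩ hK hinf hle hidx t g hg e

end

end Cfsg.Agent.Helper18.G2Odd
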