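import Cfsg.Agent.Helper18.InvOdd.G2B
import Cfsg.Agent.Helper41.G2InvSP
import Cfsg.Agent.Helper41.G2InvE
import Cfsg.Agent.Helper70.G2InvD
import Cfsg.Agent.Helper60.G2InvF

/-!
Helper18 (S4278): all involutions of `G₂(F)`, `|F|` odd, are conjugate — assembly of the pieces
(SP), (E) helper41, (D) helper70, (F) helper60, (FL) helper55, (R1), (FF2) helper89, (R2), (FF1) helper72; the case analysis
(C) of the involutions of `N` is a hypothesis here (`InvolNCases`).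
-/

set_option autoImplicit false



namespace Cfsg.Agent.Helper18.G2Odd

open Cfsg Cfsg.Lie Cfsg.Agent.Helper18 Cfsg.Agent.Helper40.SL2Hom

section
variable {F : Type*} [Field F] [Fintype F]

/-- the statement of piece (C): the involutions of `N` -/
def InvolNCases (F : Type*) [Field F] : Prop :=
  ∀ m : GL chevG2.Idx F, m ∈ chevG2.monomialSubgroup F → m * m = 1 →
    m ∈ chevG2.diagonalSubgroup F ∨
    (∃ g ∈ chevG2.monomialSubgroup F, ∃ r : ℕ, (r = 6 ∨ r = 7) ∧ ∃ k ∈ chevG2.diagonalSubgroup F,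
      g * m * g⁻¹ = k * nn r) ∨
    (∃ k ∈ chevG2.diagonalSubgroup F, m = k * nW [0, 1, 0, 1, 0, 1])

/-- an involution of `N` which is `N`-conjugate into `H n_p` (`p` fundamental) is conjugate to an involution of `H` -/
theorem refl_to_H (hF : Odd (Fintype.card F)) (m : GL chevG2.Idx F) (hmm : m * m = 1)
    (g : GL chevG2.Idx F) (hg : g ∈ chevG2.monomialSubgroup F) (r : ℕ) (hr : r = 6 ∨ r = 7)
    (k : GL chevG2.Idx F) (hk : k ∈ chevG2.diagonalSubgroup F) (e : g * m * g⁻¹ = k * nn r) :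
    ∃ k' ∈ chevG2.diagonalSubgroup F, k' * k' = 1 ∧ ConjG m k' := by
  have hr12 : r < 12 := by rcases hr with rfl | rfl <;> decide
  have hr6 : 6 ≤ r ∧ r < 12 := by rcases hr with rfl | rfl <;> decide
  have hc1 : ConjG m (k * nn r) := ⟨g, monomial_le_group hg, e⟩
  have h2 : (k * nn r) * (k * nn r) = 1 := hc1.sq_eq_one hmm
  obtain ⟨e', he', hx⟩ := Cfsg.Agent.Helper70.G2Inv.refl_invol_square r hr k hk h2
  obtain ⟨b, hb, hc2⟩ := Cfsg.Agent.Helper41.G2Inv.split_reduce r hr6 (k * nn r) h2 e' he' hx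
  have hk'' : (nn r)⁻¹ * k * nn r ∈ chevG2.diagonalSubgroup F := by
    have := conj_mem_diagonal (nn r)⁻¹ k (inv_mem (nn_mem_monomial r hr12)) hk
    simpa using this
  have hb' : (nn r)⁻¹ * k * nn r * b ∈ chevG2.borelSubgroup F :=
    mul_mem (diagonal_le_borel (F := F) chevG2 hG2 hk'') hb
  have e2 : (nn r)⁻¹ * (k * nn r) * b = 1 * 1 * ((nn r)⁻¹ * k * nn r * b) := by group
  rw [e2] at hc2
  have h3 := hc2.sq_eq_one h2
  obtain ⟨k₃, hk₃, h4, hc3⟩ := invol_cell hF 1 1 _ (one_mem _) (one_mem _) hb' h3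
  rw [mul_one] at h4
  have hc3' : ConjG (1 * 1 * ((nn r)⁻¹ * k * nn r * b)) k₃ := by
    simpa only [mul_one, one_mul] using hc3
  exact ⟨k₃, hk₃, h4, hc1.trans (hc2.trans hc3')⟩

/-- an involution of `H n_{w₀}` is conjugate to an involution of `H` -/
theorem longest_to_H (hC : InvolNCases F) (hF : Odd (Fintype.card F)) (k : GL chevG2.Idx F) (hk : k ∈ chevG2.diagonalSubgroup F)
    (h2 : (k * nW [0, 1, 0, 1, 0, 1]) * (k * nW [0, 1, 0, 1, 0, 1]) = 1) :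
    ∃ k' ∈ chevG2.diagonalSubgroup F, k' * k' = 1 ∧ ConjG (k * nW [0, 1, 0, 1, 0, 1]) k' := by
  obtain ⟨k₂, hk₂, hc1, s, hs, e, he, hx⟩ := Cfsg.Agent.Helper41.G2Inv.longest_invol_square hF k hk h2
  have hs6 : 6 ≤ s ∧ s < 12 := by rcases hs with rfl | rfl | rfl <;> decide
  have hHN := diagonalSubgroup_le_monomialSubgroup (F := F) chevG2
  have hw0 : nW (F := F) [0, 1, 0, 1, 0, 1] ∈ chevG2.monomialSubgroup F := nW_mem _ (by decide)
  set m₂ := k₂ * nW [0, 1, 0, 1, 0, 1] with hm₂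
  have hm₂N : m₂ ∈ chevG2.monomialSubgroup F := mul_mem (hHN hk₂) hw0
  have h22 : m₂ * m₂ = 1 := hc1.sq_eq_one h2
  obtain ⟨b, hb, hc2⟩ := Cfsg.Agent.Helper41.G2Inv.split_reduce s hs6 m₂ h22 e he hx
  set n' := (nn s)⁻¹ * m₂ with hn'
  have hn'N : n' ∈ chevG2.monomialSubgroup F := mul_mem (inv_mem (nn_mem_monomial s hs6.2)) hm₂N
  have e2 : (nn s)⁻¹ * m₂ * b = 1 * n' * b := by rw [hn']; group
  rw [e2] at hc2
  have h3 := hc2.sq_eq_one h22
  obtain ⟨k₃, hk₃, h4, hc3⟩ := invol_cell hF 1 n' b (one_mem _) hn'N hb h3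
  have hm₃N : k₃ * n' ∈ chevG2.monomialSubgroup F := mul_mem (hHN hk₃) hn'N
  have hcm : ConjG (k * nW [0, 1, 0, 1, 0, 1]) (k₃ * n') := hc1.trans (hc2.trans hc3)
  rcases hC (k₃ * n') hm₃N h4 with h | ⟨g, hg, r, hr, k₄, hk₄, e4⟩ | ⟨k₄, hk₄, e4⟩
  · exact ⟨_, h, h4, hcm⟩
  · obtain ⟨k', hk', h5, hc4⟩ := refl_to_H hF (k₃ * n') h4 g hg r hr k₄ hk₄ e4
    exact ⟨k', hk', h5, hcm.trans hc4⟩
  · exfalso
    apply nn_not_mem_diagonal (F := F) s hs6.2
    have : nn s = k₂ * k₄⁻¹ * k₃ := by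
      have e5 : k₃ * ((nn s)⁻¹ * (k₂ * nW [0, 1, 0, 1, 0, 1])) = k₄ * nW [0, 1, 0, 1, 0, 1] := e4
      have e6 : (nn s)⁻¹ = k₃⁻¹ * k₄ * k₂⁻¹ := by
        have : (nn s)⁻¹ = k₃⁻¹ * (k₃ * ((nn s)⁻¹ * (k₂ * nW [0, 1, 0, 1, 0, 1]))) *
            (nW [0, 1, 0, 1, 0, 1])⁻¹ * k₂⁻¹ := by group
        rw [this, e5]; group
      rw [← inv_inj, e6]; group
    rw [this]
    exact mul_mem (mul_mem hk₂ (inv_mem hk₄)) hk₃

/-- all involutions of `G₂(F)`, `|F|` odd, are conjugate to `h_{p₂}(-1)` -/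
theorem all_invol_conj (hC : InvolNCases F) (hF : Odd (Fintype.card F)) (t : GL chevG2.Idx F) (ht : t ∈ chevG2.group F)
    (h2 : t * t = 1) (h1 : t ≠ 1) : ConjG t (tor 1 (-1)) := by
  obtain ⟨m, hm, hmm, hc⟩ := invol_to_N hF t ht h2
  have key : ∃ k' ∈ chevG2.diagonalSubgroup F, k' * k' = 1 ∧ ConjG m k' := by
    rcases hC m hm hmm with h | ⟨g, hg, r, hr, k, hk, e⟩ | ⟨k, hk, e⟩
    · exact ⟨m, h, hmm, ConjG.refl m⟩
    · exact refl_to_H hF m hmm g hg r hr k hk e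
    · subst e
      exact longest_to_H hC hF k hk hmm
  obtain ⟨k', hk', h5, hc2⟩ := key
  have hne : k' ≠ 1 := by
    rintro rfl
    obtain ⟨g, -, e⟩ := hc.trans hc2
    apply h1
    have : t = g⁻¹ * (g * t * g⁻¹) * g := by group
    rw [this, e]; group
  exact (hc.trans hc2).trans (Cfsg.Agent.Helper60.G2Inv.diag_invol_conj k' hk' h5 hne)

end

end Cfsg.Agent.Helper18.G2Odd

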