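import Cfsg.Agent.Helper18.InvOdd.G2C

set_option autoImplicit false
set_option maxRecDepth 100000

/-! Helper18 (S4279): unique expression in `U`, `|H|`, coset representatives of `N/H`, the rank-one homomorphisms. -/

namespace Cfsg.Agent.Helper18.G2Odd

open Cfsg Cfsg.Lie Cfsg.Agent.Helper18 Cfsg.Agent.Helper40.SL2Hom

section
variable {F : Type*} [Field F]

theorem posRoots_eq : chevG2.posRoots = [6, 7, 8, 9, 10, 11] := by decide

/-- the ordered product of the six positive root elements -/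
noncomputable def uprod (t : ℕ → F) : GL chevG2.Idx F :=
  X 6 (t 6) * X 7 (t 7) * X 8 (t 8) * X 9 (t 9) * X 10 (t 10) * X 11 (t 11)

theorem uprod_val (t : ℕ → F) :
    ((uprod t : GL chevG2.Idx F) : Matrix chevG2.Idx chevG2.Idx F) =
      chevG2.wordMat F (chevG2.posRoots.map fun r => (r, t r)) := by
  rw [← wordGL_val chevG2 _ (triOK_of_mem chevG2 hG2), posRoots_eq]
  congr 1
  simp [uprod, wordGL, X, mul_assoc]

theorem uprod_mem (t : ℕ → F) : uprod t ∈ chevG2.posUnipotent F := by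
  unfold uprod
  refine mul_mem (mul_mem (mul_mem (mul_mem (mul_mem ?_ ?_) ?_) ?_) ?_) ?_ <;>
    exact X_mem_pos _ (by decide) _

/-- every element of `U` is an ordered product of positive root elements -/
theorem U_expr (u : GL chevG2.Idx F) (hu : u ∈ chevG2.posUnipotent F) : ∃ t : ℕ → F, u = uprod t := by
  obtain ⟨t, ⟨-, ht⟩, -⟩ := (Cfsg.Agent.S1026.result (F := F) chevG2 hG2).1 u hu
  exact ⟨t, Units.ext (by rw [ht, uprod_val])⟩

/-- the coefficients of the ordered product are unique -/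
theorem uprod_inj (t t' : ℕ → F) (h : uprod t = uprod t') : ∀ r, 6 ≤ r → r < 12 → t r = t' r := by
  intro r h6 h12
  obtain ⟨t₀, -, huniq⟩ := (Cfsg.Agent.S1026.result (F := F) chevG2 hG2).1 (uprod t) (uprod_mem t)
  let cut : (ℕ → F) → ℕ → F := fun f r => if chevG2.IsPosRoot r then f r else 0
  have hcut : ∀ f : ℕ → F, uprod (cut f) = uprod f := by
    intro f
    have : ∀ r, 6 ≤ r → r < 12 → cut f r = f r := fun r h6 h12 => if_pos ((isPosRoot_iff r).mpr ⟨h6, h12⟩)
    unfold uprod
    rw [this 6 (by decide) (by decide), this 7 (by decide) (by decide), this 8 (by decide) (by decide),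
      this 9 (by decide) (by decide), this 10 (by decide) (by decide), this 11 (by decide) (by decide)]
  have h1 : cut t = t₀ := by
    apply huniq
    refine ⟨fun r hr => if_neg hr, ?_⟩
    rw [← uprod_val, hcut]
  have h2 : cut t' = t₀ := by
    apply huniq
    refine ⟨fun r hr => if_neg hr, ?_⟩
    rw [← uprod_val, hcut, ← h]
  have h3 := congrFun (h1.trans h2.symm) r
  simp only [cut, if_pos ((isPosRoot_iff r).mpr ⟨h6, h12⟩)] at h3
  exact h3

/-- `H` is commutative -/
theorem diag_comm (k k' : GL chevG2.Idx F) (hk : k ∈ chevG2.diagonalSubgroup F) (hk' : k' ∈ chevG2.diagonalSubgroup F) :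
    k * k' = k' * k := by
  obtain ⟨c₀, c₁, rfl⟩ := (mem_diagonal_iff k).mp hk
  obtain ⟨d₀, d₁, rfl⟩ := (mem_diagonal_iff k').mp hk'
  rw [tor_mul, tor_mul, mul_comm c₀, mul_comm c₁]

/-- `|H| = (q - 1)²` -/
theorem card_diagonal [Fintype F] : Nat.card ↥(chevG2.diagonalSubgroup F) = (Fintype.card F - 1) ^ 2 := by
  have e : (Fˣ × Fˣ) ≃ ↥(chevG2.diagonalSubgroup F) := by
    refine Equiv.ofBijective (fun c => ⟨tor c.1 c.2, tor_mem _ _⟩) ⟨?_, ?_⟩
    · rintro ⟨c₀, c₁⟩ ⟨d₀, d₁⟩ h
      have := tor_inj c₀ c₁ d₀ d₁ (congrArg Subtype.val h)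
      exact Prod.ext this.1 this.2
    · rintro ⟨k, hk⟩
      obtain ⟨c₀, c₁, rfl⟩ := (mem_diagonal_iff k).mp hk
      exact ⟨(c₀, c₁), rfl⟩
  rw [← Nat.card_congr e, Nat.card_prod, Nat.card_units, Nat.card_eq_fintype_card, pow_two]

/-- `(n_w)⁻¹ ∈ H n_{w⁻¹}` -/
theorem nW_inv (w : List ℕ) (hw : ∀ i ∈ w, i < 2) :
    ∃ k ∈ chevG2.diagonalSubgroup F, (nW (F := F) w)⁻¹ = k * nW w.reverse := by
  induction w with
  | nil => exact ⟨1, one_mem _, by simp [nW_nil]⟩
  | cons i w ih =>
    have hi := hw i List.mem_cons_self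
    obtain ⟨k, hk, e⟩ := ih (fun j hj => hw j (List.mem_cons_of_mem _ hj))
    set ni := wordGL chevG2 F (chevG2.nWord (chevG2.simple i) (1 : F)) with hni
    have hrev : ∀ j ∈ w.reverse, j < 2 := fun j hj => hw j (List.mem_cons_of_mem _ (List.mem_reverse.mp hj))
    have hN : nW (F := F) w.reverse ∈ chevG2.monomialSubgroup F := nW_mem _ hrev
    have hniN : ni ∈ chevG2.monomialSubgroup F := n_simple_mem i hi
    have hsq : (ni * ni)⁻¹ ∈ chevG2.diagonalSubgroup F := inv_mem (n_simple_sq i hi)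
    refine ⟨k * (nW w.reverse * ni * (ni * ni)⁻¹ * (nW w.reverse * ni)⁻¹), ?_, ?_⟩
    · exact mul_mem hk (conj_mem_diagonal _ _ (mul_mem hN hniN) hsq)
    · have e1 : nW (F := F) (i :: w).reverse = nW w.reverse * ni := by
        rw [List.reverse_cons, nW_append]
        congr 1
        simp [nW_cons, nW_nil, hni]
      rw [nW_cons, mul_inv_rev, e, e1, ← hni]
      group

/-- the twelve canonical words represent distinct cosets of `H` in `N` -/
theorem nW_coset_inj (w w' : List ℕ) (hw : w ∈ canon12) (hw' : w' ∈ canon12)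
    (h : (nW (F := F) w)⁻¹ * nW w' ∈ chevG2.diagonalSubgroup F) : w = w' := by
  obtain ⟨k, hk, e⟩ := nW_inv (F := F) w (canon_lt w hw)
  rw [e, mul_assoc, ← nW_append] at h
  have h1 : nW (F := F) (w.reverse ++ w') ∈ chevG2.diagonalSubgroup F := by
    have := mul_mem (inv_mem hk) h
    rwa [inv_mul_cancel_left] at this
  have hlt : ∀ i ∈ w.reverse ++ w', i < chevG2.rank := by
    intro i hi
    rcases List.mem_append.mp hi with hi | hi
    · exact canon_lt w hw i (List.mem_reverse.mp hi)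
    · exact canon_lt w' hw' i hi
  have h2 := fun s hs => rho_eq_of_mem_diagonalSubgroup (F := F) chevG2 hG2 (w.reverse ++ w') hlt h1 s hs
  have h6 := h2 6 (by decide)
  have h7 := h2 7 (by decide)
  have key : ∀ w ∈ canon12, ∀ w' ∈ canon12, rho chevG2 (w.reverse ++ w') 6 = 6 → rho chevG2 (w.reverse ++ w') 7 = 7 →
      w = w' := by decide
  exact key w hw w' hw' h6 h7

/-- the homomorphism `SL₂(F) → G₂(F)` of the root `r` -/
noncomputable def phiR (r : ℕ) (hr : r < 12) : Matrix.SpecialLinearGroup (Fin 2) F →* GL chevG2.Idx F :=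
  (relX (F := F) r hr).hom

theorem phiR_U (r : ℕ) (hr : r < 12) (t : F) : phiR r hr (U t) = X r t := (relX (F := F) r hr).hom_U t

theorem phiR_L (r : ℕ) (hr : r < 12) (t : F) : phiR r hr (L t) = X (11 - r) t := (relX (F := F) r hr).hom_L t

theorem phiR_range (r : ℕ) (hr : r < 12) :
    (phiR (F := F) r hr).range = Subgroup.closure (Set.range (X (F := F) r) ∪ Set.range (X (F := F) (11 - r))) :=
  (relX (F := F) r hr).range_hom

theorem phiR_range_le_group (r : ℕ) (hr : r < 12) : (phiR (F := F) r hr).range ≤ chevG2.group F := by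
  rw [phiR_range, Subgroup.closure_le]
  rintro _ (⟨t, rfl⟩ | ⟨t, rfl⟩) <;> exact X_mem_group _ _

end

end Cfsg.Agent.Helper18.G2Odd
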