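import Cfsg.Agent.Helper18.InvOdd.G2Api

set_option autoImplicit false
set_option maxRecDepth 100000

namespace Cfsg.Agent.Helper18.G2Odd

open Cfsg Cfsg.Lie Cfsg.Agent.Helper18 Cfsg.Agent.Helper40.SL2Hom

section
variable {F : Type*} [Field F]

/-! Helper18 (S4278/S4279): canonical forms in the monomial group `N` of `G₂(F)`. -/

/-- the product of the fundamental `n_p` along a word in `{0, 1}` -/
noncomputable def nW (w : List ℕ) : GL chevG2.Idx F := nWordsGL chevG2 F w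

theorem nW_nil : nW (F := F) [] = 1 := by simp [nW, nWordsGL]

theorem nW_cons (i : ℕ) (w : List ℕ) :
    nW (F := F) (i :: w) = wordGL chevG2 F (chevG2.nWord (chevG2.simple i) (1 : F)) * nW w := by
  simp [nW, nWordsGL]

theorem nW_append (w₁ w₂ : List ℕ) : nW (F := F) (w₁ ++ w₂) = nW w₁ * nW w₂ := by
  simp [nW, nWordsGL, List.map_append, List.prod_append]

theorem nW_mem (w : List ℕ) (hw : ∀ i ∈ w, i < 2) : nW (F := F) w ∈ chevG2.monomialSubgroup F :=
  nWordsGL_mem chevG2 hG2 w hw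

/-- `H` is normalised by `N` -/
theorem conj_mem_diagonal (n k : GL chevG2.Idx F) (hn : n ∈ chevG2.monomialSubgroup F)
    (hk : k ∈ chevG2.diagonalSubgroup F) : n * k * n⁻¹ ∈ chevG2.diagonalSubgroup F :=
  (Subgroup.mem_normalizer_iff.mp (monomialSubgroup_le_normalizer chevG2 hG2 hn) _).mp hk

/-- the twelve reduced words of the Weyl group of type `G₂` -/
def canon12 : List (List ℕ) :=
  [[], [0], [1], [0, 1], [1, 0], [0, 1, 0], [1, 0, 1], [0, 1, 0, 1], [1, 0, 1, 0], [0, 1, 0, 1, 0], [1, 0, 1, 0, 1],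
    [0, 1, 0, 1, 0, 1]]

/-- the braid relation modulo `H` -/
theorem braid_mod_H :
    nW (F := F) [1, 0, 1, 0, 1, 0] * (nW [0, 1, 0, 1, 0, 1])⁻¹ ∈ chevG2.diagonalSubgroup F := by
  obtain ⟨φ, -, hker, hsimple⟩ := weyl_iso_G2 (F := F) (nConjHyp chevG2 hG2)
  have hmem : ∀ i : Fin 2, wordGL chevG2 F (chevG2.nWord (chevG2.simple i.val) (1 : F)) ∈ chevG2.monomialSubgroup F :=
    fun i => nGL_mem_monomialSubgroup chevG2 hG2 _ (simple_lt chevG2 (simpleOK_of_mem chevG2 hG2) i.1 i.2)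
  have hφ : ∀ i : Fin 2, φ ⟨_, hmem i⟩ = (CoxeterMatrix.G₂).simple i :=
    fun i => hsimple i ⟨_, hmem i⟩ (nWordGL_val chevG2 hG2 _ _)
  set a : ↥(chevG2.monomialSubgroup F) := ⟨_, hmem 0⟩ with ha
  set b : ↥(chevG2.monomialSubgroup F) := ⟨_, hmem 1⟩ with hb
  have e : nW (F := F) [1, 0, 1, 0, 1, 0] * (nW [0, 1, 0, 1, 0, 1])⁻¹ =
      ((b * a * b * a * b * a * (a * b * a * b * a * b)⁻¹ : ↥(chevG2.monomialSubgroup F)) : GL chevG2.Idx F) := by
    simp only [nW_cons, nW_nil, mul_one, Subgroup.coe_mul, Subgroup.coe_inv, ha, hb]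
    simp only [mul_assoc]
    rfl
  rw [e, ← Subgroup.mem_subgroupOf, ← hker, MonoidHom.mem_ker]
  have cs := (CoxeterMatrix.G₂).toCoxeterSystem
  have h6 := (CoxeterMatrix.G₂).toCoxeterSystem.simple_mul_simple_pow (0 : Fin 2) 1
  have hM : (CoxeterMatrix.G₂) (0 : Fin 2) 1 = 6 := by decide
  rw [hM] at h6
  have h0 := (CoxeterMatrix.G₂).toCoxeterSystem.simple_mul_simple_self (0 : Fin 2)
  have h1 := (CoxeterMatrix.G₂).toCoxeterSystem.simple_mul_simple_self (1 : Fin 2)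
  have hφa : φ a = (CoxeterMatrix.G₂).simple 0 := hφ 0
  have hφb : φ b = (CoxeterMatrix.G₂).simple 1 := hφ 1
  simp only [map_mul, map_inv, hφa, hφb, CoxeterMatrix.toCoxeterSystem_simple] at h0 h1 h6 ⊢
  set s := (CoxeterMatrix.G₂).simple 0
  set t := (CoxeterMatrix.G₂).simple 1
  have hs : s⁻¹ = s := inv_eq_of_mul_eq_one_left h0
  have ht : t⁻¹ = t := inv_eq_of_mul_eq_one_left h1
  have : t * s * t * s * t * s * (s * t * s * t * s * t)⁻¹ = ((s * t) ^ 6)⁻¹ := by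
    have : (s * t * s * t * s * t)⁻¹ = t * s * t * s * t * s := by
      simp only [mul_inv_rev, hs, ht, mul_assoc]
    rw [this]
    have h2 : ((s * t) ^ 6)⁻¹ = (t * s) ^ 6 := by
      rw [← inv_pow, mul_inv_rev, hs, ht]
    rw [h2]
    simp only [pow_succ, pow_zero, one_mul, mul_assoc]
  rw [this, h6, inv_one]

theorem n_simple_mem (i : ℕ) (hi : i < 2) :
    wordGL chevG2 F (chevG2.nWord (chevG2.simple i) (1 : F)) ∈ chevG2.monomialSubgroup F :=
  nGL_mem_monomialSubgroup chevG2 hG2 _ (simple_lt chevG2 (simpleOK_of_mem chevG2 hG2) i hi)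

theorem n_simple_sq (i : ℕ) (hi : i < 2) :
    wordGL chevG2 F (chevG2.nWord (chevG2.simple i) (1 : F)) * wordGL chevG2 F (chevG2.nWord (chevG2.simple i) (1 : F)) ∈
      chevG2.diagonalSubgroup F :=
  nGL_sq_mem chevG2 hG2 _ (simple_lt chevG2 (simpleOK_of_mem chevG2 hG2) i hi)

theorem canon_lt : ∀ w ∈ canon12, ∀ i ∈ w, i < 2 := by decide

/-- one step of the reduction to a canonical word -/
theorem canon_step (i : ℕ) (hi : i < 2) (w' : List ℕ) (hw' : w' ∈ canon12) :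
    ∃ w'' ∈ canon12, nW (F := F) (i :: w') * (nW w'')⁻¹ ∈ chevG2.diagonalSubgroup F := by
  have cancel : ∀ v : List ℕ, nW (F := F) (i :: i :: v) * (nW v)⁻¹ ∈ chevG2.diagonalSubgroup F := by
    intro v
    rw [nW_cons, nW_cons, ← mul_assoc, mul_inv_cancel_right]
    exact n_simple_sq i hi
  have self : ∀ v : List ℕ, nW (F := F) v * (nW v)⁻¹ ∈ chevG2.diagonalSubgroup F := by
    intro v; rw [mul_inv_cancel]; exact one_mem _
  have hi' : i = 0 ∨ i = 1 := by omega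
  simp only [canon12, List.mem_cons, List.not_mem_nil, or_false] at hw'
  rcases hi' with rfl | rfl
  · rcases hw' with rfl | rfl | rfl | rfl | rfl | rfl | rfl | rfl | rfl | rfl | rfl | rfl
    · exact ⟨[0], by decide, self _⟩
    · exact ⟨[], by decide, cancel _⟩
    · exact ⟨[0, 1], by decide, self _⟩
    · exact ⟨[1], by decide, cancel _⟩
    · exact ⟨[0, 1, 0], by decide, self _⟩
    · exact ⟨[1, 0], by decide, cancel _⟩
    · exact ⟨[0, 1, 0, 1], by decide, self _⟩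
    · exact ⟨[1, 0, 1], by decide, cancel _⟩
    · exact ⟨[0, 1, 0, 1, 0], by decide, self _⟩
    · exact ⟨[1, 0, 1, 0], by decide, cancel _⟩
    · exact ⟨[0, 1, 0, 1, 0, 1], by decide, self _⟩
    · exact ⟨[1, 0, 1, 0, 1], by decide, cancel _⟩
  · rcases hw' with rfl | rfl | rfl | rfl | rfl | rfl | rfl | rfl | rfl | rfl | rfl | rfl
    · exact ⟨[1], by decide, self _⟩
    · exact ⟨[1, 0], by decide, self _⟩
    · exact ⟨[], by decide, cancel _⟩
    · exact ⟨[1, 0, 1], by decide, self _⟩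
    · exact ⟨[0], by decide, cancel _⟩
    · exact ⟨[1, 0, 1, 0], by decide, self _⟩
    · exact ⟨[0, 1], by decide, cancel _⟩
    · exact ⟨[1, 0, 1, 0, 1], by decide, self _⟩
    · exact ⟨[0, 1, 0], by decide, cancel _⟩
    · exact ⟨[0, 1, 0, 1, 0, 1], by decide, braid_mod_H⟩
    · exact ⟨[0, 1, 0, 1], by decide, cancel _⟩
    · refine ⟨[0, 1, 0, 1, 0], by decide, ?_⟩
      -- `[1,0,1,0,1,0,1] ≡ [0,1,0,1,0,1,1] ≡ [0,1,0,1,0]`
      have e1 : nW (F := F) [1, 0, 1, 0, 1, 0, 1] = nW [1, 0, 1, 0, 1, 0] * nW [1] := by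
        rw [← nW_append]; rfl
      have e2 : nW (F := F) [0, 1, 0, 1, 0, 1] = nW [0, 1, 0, 1, 0] * nW [1] := by
        rw [← nW_append]; rfl
      have e3 : nW (F := F) [1, 0, 1, 0, 1, 0, 1] * (nW [0, 1, 0, 1, 0])⁻¹ =
          (nW [1, 0, 1, 0, 1, 0] * (nW [0, 1, 0, 1, 0, 1])⁻¹) *
            (nW [0, 1, 0, 1, 0] * (nW [1] * nW [1]) * (nW [0, 1, 0, 1, 0])⁻¹) := by
        rw [e1, e2]; group
      rw [e3]
      refine mul_mem braid_mod_H (conj_mem_diagonal _ _ (nW_mem _ (by decide)) ?_)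
      have : nW (F := F) [1] * nW [1] = wordGL chevG2 F (chevG2.nWord (chevG2.simple 1) (1 : F)) *
          wordGL chevG2 F (chevG2.nWord (chevG2.simple 1) (1 : F)) := by
        simp [nW_cons, nW_nil]
      rw [this]
      exact n_simple_sq 1 (by decide)

/-- every word is congruent modulo `H` to a canonical word -/
theorem canon_word (w : List ℕ) (hw : ∀ i ∈ w, i < 2) :
    ∃ w' ∈ canon12, nW (F := F) w * (nW w')⁻¹ ∈ chevG2.diagonalSubgroup F := by
  induction w with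
  | nil => exact ⟨[], by decide, by simp [nW_nil]⟩
  | cons i w ih =>
    obtain ⟨w', hw', h1⟩ := ih (fun j hj => hw j (List.mem_cons_of_mem _ hj))
    have hi := hw i List.mem_cons_self
    obtain ⟨w'', hw'', h2⟩ := canon_step (F := F) i hi w' hw'
    refine ⟨w'', hw'', ?_⟩
    have e : nW (F := F) (i :: w) * (nW w'')⁻¹ =
        (wordGL chevG2 F (chevG2.nWord (chevG2.simple i) (1 : F)) * (nW w * (nW w')⁻¹) *
          (wordGL chevG2 F (chevG2.nWord (chevG2.simple i) (1 : F)))⁻¹) * (nW (i :: w') * (nW w'')⁻¹) := by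
      rw [nW_cons, nW_cons]; group
    rw [e]
    exact mul_mem (conj_mem_diagonal _ _ (n_simple_mem i hi) h1) h2

/-- **canonical form in `N`**: every element of `N` is `k n_w` with `k ∈ H` and `w` one of the twelve reduced words -/
theorem monomial_canon (n : GL chevG2.Idx F) (hn : n ∈ chevG2.monomialSubgroup F) :
    ∃ k ∈ chevG2.diagonalSubgroup F, ∃ w ∈ canon12, n = k * nW w := by
  obtain ⟨w, hw, k, hk, e⟩ := mem_monomial_decomp chevG2 hG2 n hn
  obtain ⟨w', hw', h1⟩ := canon_word (F := F) w hw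
  refine ⟨k * (nW w * (nW w')⁻¹), mul_mem hk h1, w', hw', ?_⟩
  rw [e]
  show k * nW w = _
  group

theorem reflect_lt (i s : ℕ) (hi : i < chevG2.rank) (hs : s < chevG2.nroots) : chevG2.reflectRoot i s < chevG2.nroots :=
  reflectRoot_lt chevG2 hG2 i s hi hs

/-- `n_w x_s(t) n_w⁻¹ = x_{w s}(± t)` -/
theorem nW_conj (w : List ℕ) (hw : ∀ i ∈ w, i < 2) (s : ℕ) (hs : s < 12) :
    rho chevG2 w s < 12 ∧ ∃ η : F, (η = 1 ∨ η = -1) ∧
      ∀ t : F, nW w * X s t * (nW w)⁻¹ = X (rho chevG2 w s) (η * t) := by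
  obtain ⟨hlt, η, hη, h⟩ := nWordsGL_conj_xGL (F := F) chevG2 hG2 (nConjHyp chevG2 hG2) reflect_lt w hw s hs
  refine ⟨hlt, (η : F), ?_, fun t => ?_⟩
  · rcases hη with rfl | rfl
    · left; simp
    · right; simp
  · rw [mul_inv_eq_iff_eq_mul]
    exact h t

theorem X_injective (r : ℕ) (hr : r < 12) (a b : F) (h : X r a = X r b) : a = b := by
  apply x_injective chevG2 hG2 r hr
  have := congrArg (fun g : GL chevG2.Idx F => (g : Matrix chevG2.Idx chevG2.Idx F)) h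
  simpa [X, xGL_val chevG2 _ (triOK_of_mem chevG2 hG2)] using this

theorem X_mem_pos (r : ℕ) (hr : 6 ≤ r ∧ r < 12) (t : F) : X r t ∈ chevG2.posUnipotent F :=
  xGL_mem_posUnipotent chevG2 hG2 r hr t

theorem X_zero (r : ℕ) : X r (0 : F) = 1 := xGL_zero' chevG2 hG2 r

theorem X_neg (r : ℕ) (t : F) : X r (-t) = (X r t)⁻¹ := by
  apply eq_inv_of_mul_eq_one_left
  rw [← X_add, neg_add_cancel, X_zero]

/-- the action of an element of `N` on the root groups -/
theorem monomial_conj (n : GL chevG2.Idx F) (hn : n ∈ chevG2.monomialSubgroup F) :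
    ∃ (σ : ℕ → ℕ) (c : ℕ → F), ∀ s < 12, σ s < 12 ∧ c s ≠ 0 ∧ ∀ t : F, n * X s t * n⁻¹ = X (σ s) (c s * t) := by
  obtain ⟨k, hk, w, hw, rfl⟩ := monomial_canon n hn
  obtain ⟨c₀, c₁, rfl⟩ := (mem_diagonal_iff k).mp hk
  have hwlt := canon_lt w hw
  choose hlt η hη hconj using fun (s : {s : ℕ // s < 12}) => nW_conj (F := F) w hwlt s.1 s.2
  refine ⟨rho chevG2 w, fun s => if h : s < 12 then ((chr (rho chevG2 w s) c₀ c₁ : Fˣ) : F) * η ⟨s, h⟩ else 1, ?_⟩
  intro s hs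
  refine ⟨hlt ⟨s, hs⟩, ?_, fun t => ?_⟩
  · simp only [dif_pos hs]
    refine mul_ne_zero (Units.ne_zero _) ?_
    rcases hη ⟨s, hs⟩ with h | h <;> rw [h] <;> simp
  · simp only [dif_pos hs]
    have e : tor c₀ c₁ * nW w * X s t * (tor c₀ c₁ * nW w)⁻¹ =
        tor c₀ c₁ * (nW w * X s t * (nW w)⁻¹) * (tor c₀ c₁)⁻¹ := by group
    rw [e, hconj ⟨s, hs⟩ t, tor_conj c₀ c₁ _ (hlt ⟨s, hs⟩), mul_assoc]

end

end Cfsg.Agent.Helper18.G2Odd
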