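import Cfsg.Agent.S1100
import Cfsg.Agent.S1027
import Cfsg.Agent.S1036
import Cfsg.Agent.Helper18.Ree.DiagChar

/-!
Helper18 (S4278/S4279): in a Chevalley group over a finite field of odd order, an involution lying in the double coset
`B n B` (`n ∈ N`) is conjugate, by an element of `B`, to an involution of the coset `H n`.
-/

set_option autoImplicit false

namespace Cfsg.Agent.Helper18.InvOdd

open Cfsg Cfsg.Lie Cfsg.Agent.Helper18

section
variable {F : Type*} [Field F] (D : ChevalleyDatum)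
  (hD : D ∈ [chevG2, chevB2, chevD4, chevF4, chevE6, chevE7, chevE8])
include hD

/-- `b₁ n b₂ = b₁' n' b₂'` forces `n⁻¹ n' ∈ H` -/
theorem bnb_unique (b₁ b₂ b₁' b₂' n n' : GL D.Idx F) (hb₁ : b₁ ∈ D.borelSubgroup F) (hb₂ : b₂ ∈ D.borelSubgroup F)
    (hb₁' : b₁' ∈ D.borelSubgroup F) (hb₂' : b₂' ∈ D.borelSubgroup F)
    (hn : n ∈ D.monomialSubgroup F) (hn' : n' ∈ D.monomialSubgroup F)
    (heq : b₁ * n * b₂ = b₁' * n' * b₂') : n⁻¹ * n' ∈ D.diagonalSubgroup F := by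
  have h25 : CommHyp D F := fun r s hr hs h1 h2 t u => Cfsg.Agent.S1025.result D hD r s hr hs h1 h2 t u
  obtain ⟨P, hPB, hPN, -⟩ := exists_bnPair (F := F) D hD h25
  obtain ⟨hBG, hNG, -⟩ := Cfsg.Agent.S1043.result (F := F) D hD
  have hnP : (⟨n, hNG hn⟩ : ↥(D.group F)) ∈ P.N := by
    rw [hPN, Subgroup.mem_subgroupOf]; exact hn
  have hn'P : (⟨n', hNG hn'⟩ : ↥(D.group F)) ∈ P.N := by
    rw [hPN, Subgroup.mem_subgroupOf]; exact hn'
  have hdc : DoubleCoset.doubleCoset (⟨n, hNG hn⟩ : ↥(D.group F)) (P.B : Set ↥(D.group F)) P.B =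
      DoubleCoset.doubleCoset (⟨n', hNG hn'⟩ : ↥(D.group F)) (P.B : Set ↥(D.group F)) P.B := by
    symm
    apply DoubleCoset.doubleCoset_eq_of_mem
    rw [DoubleCoset.mem_doubleCoset]
    have h1 : b₁'⁻¹ * b₁ ∈ D.borelSubgroup F := Subgroup.mul_mem _ (Subgroup.inv_mem _ hb₁') hb₁
    have h2 : b₂ * b₂'⁻¹ ∈ D.borelSubgroup F := Subgroup.mul_mem _ hb₂ (Subgroup.inv_mem _ hb₂')
    refine ⟨⟨b₁'⁻¹ * b₁, hBG h1⟩, ?_, ⟨b₂ * b₂'⁻¹, hBG h2⟩, ?_, ?_⟩
    · rw [SetLike.mem_coe, hPB, Subgroup.mem_subgroupOf]; exact h1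
    · rw [SetLike.mem_coe, hPB, Subgroup.mem_subgroupOf]; exact h2
    · apply Subtype.ext
      show n' = b₁'⁻¹ * b₁ * n * (b₂ * b₂'⁻¹)
      have : b₁'⁻¹ * b₁ * n * (b₂ * b₂'⁻¹) = b₁'⁻¹ * (b₁ * n * b₂) * b₂'⁻¹ := by group
      rw [this, heq]; group
  have hmem := (Cfsg.Agent.S0309.result P hnP hn'P).mp hdc
  rw [hPB, Subgroup.mem_subgroupOf] at hmem
  have hmem' : n⁻¹ * n' ∈ D.borelSubgroup F := by simpa using hmem
  have hN' : n⁻¹ * n' ∈ D.monomialSubgroup F := Subgroup.mul_mem _ (Subgroup.inv_mem _ hn) hn'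
  have := (Cfsg.Agent.S1040.result (F := F) D hD).2
  rw [← this]
  exact ⟨hmem', hN'⟩

/-- the elements of `H` have order dividing `|F| - 1` -/
theorem diag_pow_card_sub_one' [Fintype F] (k : GL D.Idx F) (hk : k ∈ D.diagonalSubgroup F) :
    k ^ (Fintype.card F - 1) = 1 := by
  obtain ⟨χ, hχ, hd, -, -⟩ := Cfsg.Agent.Helper18.Ree.diag_char_neg D hD k hk
  apply Units.ext
  rw [Units.val_pow_eq_pow_val, hd, Matrix.diagonal_pow, Units.val_one, ← Matrix.diagonal_one]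
  congr 1
  funext j
  rcases j with a | s
  · simp
  · simp only [Pi.pow_apply, Sum.elim_inr]
    exact FiniteField.pow_card_sub_one_eq_one _ (hχ s.val)

/-- every element of `B` is `u h` -/
theorem borel_decomp (b : GL D.Idx F) (hb : b ∈ D.borelSubgroup F) :
    ∃ u ∈ D.posUnipotent F, ∃ h ∈ D.diagonalSubgroup F, b = u * h := by
  unfold ChevalleyDatum.borelSubgroup at hb
  exact Cfsg.Agent.Helper19.Poinc.exists_mul_of_mem_sup (Cfsg.Agent.S1036.result (F := F) D hD).1 hb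

/-- powers of `u h` -/
theorem mul_pow_mem' (u h : GL D.Idx F) (hu : u ∈ D.posUnipotent F) (hh : h ∈ D.diagonalSubgroup F) (n : ℕ) :
    ∃ u' ∈ D.posUnipotent F, (u * h) ^ n = u' * h ^ n := by
  have hN := (Cfsg.Agent.S1036.result (F := F) D hD).1
  induction n with
  | zero => exact ⟨1, one_mem _, by simp⟩
  | succ n ih =>
    obtain ⟨u', hu', e⟩ := ih
    have hc : h ^ n * u * (h ^ n)⁻¹ ∈ D.posUnipotent F :=
      (Subgroup.mem_normalizer_iff.mp (hN (Subgroup.pow_mem _ hh n)) u).mp hu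
    refine ⟨u' * (h ^ n * u * (h ^ n)⁻¹), Subgroup.mul_mem _ hu' hc, ?_⟩
    rw [pow_succ, e, pow_succ]
    group

/-- an element of `B` whose order is prime to `|F| - 1` lies in `U` -/
theorem mem_posUnipotent_of_coprime' [Fintype F] (x : GL D.Idx F) (hx : x ∈ D.borelSubgroup F)
    (hc : (Fintype.card F - 1).Coprime (orderOf x)) : x ∈ D.posUnipotent F := by
  obtain ⟨u, hu, h, hh, rfl⟩ := borel_decomp D hD x hx
  obtain ⟨u', hu', e⟩ := mul_pow_mem' D hD u h hu hh (Fintype.card F - 1)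
  rw [diag_pow_card_sub_one' D hD h hh, mul_one] at e
  obtain ⟨a, ha⟩ := exists_pow_eq_self_of_coprime hc
  rw [← ha, e]
  exact Subgroup.pow_mem _ hu' a

/-- the order of an element of `U` divides a power of `|F|` -/
theorem orderOf_dvd_of_mem_posUnipotent [Fintype F] (u : GL D.Idx F) (hu : u ∈ D.posUnipotent F) :
    orderOf u ∣ Fintype.card F ^ (D.nroots / 2) := by
  have h1 : orderOf (⟨u, hu⟩ : ↥(D.posUnipotent F)) ∣ Nat.card ↥(D.posUnipotent F) := orderOf_dvd_natCard _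
  rw [Cfsg.Agent.S1027.result D hD] at h1
  have h2 : orderOf (⟨u, hu⟩ : ↥(D.posUnipotent F)) = orderOf u := by
    rw [← Subgroup.orderOf_coe]
  rwa [h2] at h1

omit hD in
theorem coprime_card_sub_one_pow [Fintype F] (k : ℕ) : (Fintype.card F - 1).Coprime (Fintype.card F ^ k) := by
  apply Nat.Coprime.pow_right
  have h1 : 1 ≤ Fintype.card F := Fintype.card_pos
  have : Fintype.card F = (Fintype.card F - 1) + 1 := by omega
  rw [Nat.coprime_comm]
  nth_rewrite 1 [this]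
  simp

/-- **Involutions go to `N`**: if `t = b n b'` (`b, b' ∈ B`, `n ∈ N`) is an involution of a Chevalley group over a
finite field of odd order, then `g t g⁻¹ = k n` for some `g ∈ B`, `k ∈ H`, and `k n` is an involution. -/
theorem invol_conj_monomial [Fintype F] (hF : Odd (Fintype.card F))
    (b n b' : GL D.Idx F) (hb : b ∈ D.borelSubgroup F) (hn : n ∈ D.monomialSubgroup F)
    (hb' : b' ∈ D.borelSubgroup F) (h2 : (b * n * b') * (b * n * b') = 1) :
    ∃ g ∈ D.borelSubgroup F, ∃ k ∈ D.diagonalSubgroup F,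
      g * (b * n * b') * g⁻¹ = k * n ∧ (k * n) * (k * n) = 1 := by
  have hHN := diagonalSubgroup_le_monomialSubgroup (F := F) D
  have hHB := diagonal_le_borel (F := F) D hD
  have hUB := posUnipotent_le_borel (F := F) D hD
  have hHU := (Cfsg.Agent.S1036.result (F := F) D hD).1
  have hUN := (Cfsg.Agent.S1040.result (F := F) D hD).1
  -- `t' = b' t b'⁻¹ = c n`
  obtain ⟨c, hc⟩ : ∃ c, c = b' * b := ⟨_, rfl⟩
  have hcB : c ∈ D.borelSubgroup F := by rw [hc]; exact mul_mem hb' hb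
  have e1 : b' * (b * n * b') * b'⁻¹ = c * n := by rw [hc]; group
  have h2' : (c * n) * (c * n) = 1 := by
    rw [← e1]
    calc b' * (b * n * b') * b'⁻¹ * (b' * (b * n * b') * b'⁻¹)
        = b' * ((b * n * b') * (b * n * b')) * b'⁻¹ := by group
      _ = 1 := by rw [h2]; group
  -- `n² ∈ H`
  have hnn : n * n ∈ D.diagonalSubgroup F := by
    have e : (1 : GL D.Idx F) * n⁻¹ * 1 = c * n * c := by
      have : c * n * c = (c * n) * (c * n) * n⁻¹ := by group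
      rw [this, h2']; group
    have := bnb_unique D hD 1 1 c c n⁻¹ n (one_mem _) (one_mem _) hcB hcB (inv_mem hn) hn e
    simpa using this
  -- `c = u₀ h₀`
  obtain ⟨u₀, hu₀, h₀, hh₀, rfl⟩ := borel_decomp D hD c hcB
  set m := h₀ * n with hm
  have hmN : m ∈ D.monomialSubgroup F := mul_mem (hHN hh₀) hn
  have e2 : u₀ * h₀ * n = u₀ * m := by rw [hm]; group
  rw [e2] at h2' e1
  -- `n u₀ n⁻¹ ∈ B`
  have h3 : n * (u₀ * h₀) * n⁻¹ ∈ D.borelSubgroup F := by
    have : n * (u₀ * h₀) * n⁻¹ = (u₀ * h₀)⁻¹ * (n * n)⁻¹ := by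
      have h4 : u₀ * h₀ * n * (u₀ * h₀ * n) = 1 := by rw [e2]; exact h2'
      have : n * (u₀ * h₀) * n⁻¹ = (u₀ * h₀)⁻¹ * ((u₀ * h₀ * n) * (u₀ * h₀ * n)) * (n * n)⁻¹ := by group
      rw [this, h4]; group
    rw [this]
    exact mul_mem (inv_mem hcB) (inv_mem (hHB hnn))
  have h4 : n * u₀ * n⁻¹ ∈ D.borelSubgroup F := by
    have : n * u₀ * n⁻¹ = (n * (u₀ * h₀) * n⁻¹) * (n * h₀ * n⁻¹)⁻¹ := by group
    rw [this]
    refine mul_mem h3 (inv_mem (hHB ?_))
    exact (Subgroup.mem_normalizer_iff.mp (monomialSubgroup_le_normalizer D hD hn) _).mp hh₀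
  have hord : orderOf (n * u₀ * n⁻¹) = orderOf u₀ := by
    have := orderOf_injective (MulAut.conj n).toMonoidHom (MulAut.conj n).injective u₀
    simpa [MulAut.conj_apply] using this
  have hdvd := orderOf_dvd_of_mem_posUnipotent D hD u₀ hu₀
  have hcop : (Fintype.card F - 1).Coprime (orderOf (n * u₀ * n⁻¹)) := by
    rw [hord]
    exact Nat.Coprime.coprime_dvd_right hdvd (coprime_card_sub_one_pow _)
  have h5 : n * u₀ * n⁻¹ ∈ D.posUnipotent F := mem_posUnipotent_of_coprime' D hD _ h4 hcop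
  have h6 : m * u₀ * m⁻¹ ∈ D.posUnipotent F := by
    have : m * u₀ * m⁻¹ = h₀ * (n * u₀ * n⁻¹) * h₀⁻¹ := by rw [hm]; group
    rw [this]
    exact (Subgroup.mem_normalizer_iff.mp (hHU hh₀) _).mp h5
  -- `m² = 1` and `m u₀ m⁻¹ = u₀⁻¹`
  have h7 : u₀ * (m * u₀ * m⁻¹) = (m * m)⁻¹ := by
    have : u₀ * (m * u₀ * m⁻¹) = (u₀ * m) * (u₀ * m) * (m * m)⁻¹ := by group
    rw [this, h2']; group
  have h8 : u₀ * (m * u₀ * m⁻¹) ∈ D.posUnipotent F ⊓ D.monomialSubgroup F :=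
    ⟨mul_mem hu₀ h6, by rw [h7]; exact Subgroup.inv_mem _ (mul_mem hmN hmN)⟩
  rw [hUN, Subgroup.mem_bot] at h8
  have hmm : m * m = 1 := by
    rw [h8] at h7
    exact inv_eq_one.mp h7.symm
  have hminv : m⁻¹ = m := inv_eq_of_mul_eq_one_left hmm
  have hinv : m * u₀ * m⁻¹ = u₀⁻¹ := eq_inv_of_mul_eq_one_right h8
  -- the square root of `u₀`
  have hoddq : Odd (Fintype.card F ^ (D.nroots / 2)) := hF.pow
  have hoddk : Odd (orderOf u₀) := by
    obtain ⟨d, hd⟩ := hdvd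
    rw [hd] at hoddq
    exact (Nat.odd_mul.mp hoddq).1
  obtain ⟨j, hj⟩ := hoddk
  set v := u₀ ^ (j + 1) with hv
  have hvv : v * v = u₀ := by
    rw [hv, ← pow_add]
    have : j + 1 + (j + 1) = orderOf u₀ + 1 := by omega
    rw [this, pow_succ, pow_orderOf_eq_one, one_mul]
  have hvB : v ∈ D.borelSubgroup F := hUB (Subgroup.pow_mem _ hu₀ _)
  have hmv : m * v * m⁻¹ = v⁻¹ := by
    rw [hv]
    have : m * u₀ ^ (j + 1) * m⁻¹ = (m * u₀ * m⁻¹) ^ (j + 1) := by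
      rw [conj_pow]
    rw [this, hinv, inv_pow]
  refine ⟨v⁻¹ * b', mul_mem (inv_mem hvB) hb', h₀, hh₀, ?_, ?_⟩
  · have e3 : v⁻¹ * b' * (b * n * b') * (v⁻¹ * b')⁻¹ = v⁻¹ * (b' * (b * n * b') * b'⁻¹) * v := by group
    rw [e3, e1, ← hvv]
    have : v⁻¹ * (v * v * m) * v = v * (m * v * m⁻¹) * m := by group
    rw [this, hmv, hm]
    group
  · exact hmm

end

end Cfsg.Agent.Helper18.InvOdd
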